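import Cfsg.Agent.Lib.CosetCert.Check

/-!
# Coset tables
-/

set_option autoImplicit false
set_option linter.all false

noncomputable section

namespace Cfsg.Agent.CosetCert

/-- A table: a certificate, the number of cosets, the packed rows and one packed permutation for each letter. -/
structure Table where
  C : Cert
  n : ℕ
  R : Tree
  P : List ℕ

def nthNat (l : List ℕ) : ℕ → ℕ :=
  List.rec (motive := fun _ => ℕ → ℕ) (fun _ => 0)
    (fun a _ ih i => Bool.rec (motive := fun _ => ℕ) (ih (Nat.sub i 1)) a (Nat.beq i 0)) l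

variable (D : Table)

def Table.repr (c : ℕ) : ℕ := Nat.land (D.R.get c) 1048575
def Table.parent (c : ℕ) : ℕ := Nat.land (Nat.shiftRight (D.R.get c) 20) 15
def Table.tgt (c x : ℕ) : ℕ := Nat.land (Nat.shiftRight (nthNat D.P x) (Nat.mul 20 c)) 1048575
def Table.fid (c x : ℕ) : ℕ := Nat.land (Nat.shiftRight (D.R.get c) (Nat.add 24 (Nat.mul 20 x))) 1048575

/-- The action of a word on the table. -/
def Table.run (w : List ℕ) : ℕ → ℕ :=
  List.rec (motive := fun _ => ℕ → ℕ) (fun c => c) (fun y _ ih c => ih (D.tgt c y)) w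

def cellOK (D : Table) (c x : ℕ) : Bool :=
  let d := D.tgt c x
  let f := D.C.F.get (D.fid c x)
  Nat.blt d D.n && Nat.beq (D.tgt d x) c && Nat.blt (D.fid c x) D.C.N && Nat.beq (fX f) x &&
    ((Nat.beq (fU f) (D.repr c) && Nat.beq (fV f) (D.repr d)) ||
     (Nat.beq (fV f) (D.repr c) && Nat.beq (fU f) (D.repr d)))

def cellsOK (D : Table) (c : ℕ) : ℕ → Bool
  | 0 => true
  | x + 1 => cellOK D c x && cellsOK D c x

def fixesAll (D : Table) (c : ℕ) : List (List ℕ) → Bool
  | [] => true
  | w :: l => Nat.beq (D.run w c) c && fixesAll D c l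

def lettersOK (K : ℕ) : List ℕ → Bool
  | [] => true
  | y :: w => Nat.blt y K && lettersOK K w

def allLettersOK (K : ℕ) : List (List ℕ) → Bool
  | [] => true
  | w :: l => lettersOK K w && allLettersOK K l

def rowOK (D : Table) (c : ℕ) : Bool :=
  cellsOK D c D.C.K && fixesAll D c D.C.W &&
    match c with
    | 0 => Nat.beq (D.repr 0) 0
    | _ + 1 => Nat.blt (D.parent c) D.C.K && Nat.blt (D.tgt c (D.parent c)) c

def rowsOK (D : Table) : ℕ → ℕ → Bool
  | _, 0 => true
  | a, n + 1 => rowOK D a && rowsOK D (Nat.succ a) n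

theorem rowsOK_spec : ∀ n a, rowsOK D a n = true → ∀ i, a ≤ i → i < a + n → rowOK D i = true := by
  intro n
  induction n with
  | zero => intro a _ i h1 h2; omega
  | succ n ih =>
    intro a h i h1 h2
    simp only [rowsOK, Bool.and_eq_true] at h
    rcases Nat.eq_or_lt_of_le h1 with e | e
    · exact e ▸ h.1
    · exact ih (Nat.succ a) h.2 i (by omega) (by omega)

theorem cellsOK_spec {c : ℕ} : ∀ K, cellsOK D c K = true → ∀ x < K, cellOK D c x = true
  | 0, _, x, hx => absurd hx (by omega)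
  | K + 1, h, x, hx => by
    simp only [cellsOK, Bool.and_eq_true] at h
    rcases Nat.lt_succ_iff_lt_or_eq.mp hx with e | rfl
    · exact cellsOK_spec K h.2 x e
    · exact h.1

theorem fixesAll_spec {c : ℕ} : ∀ {l : List (List ℕ)}, fixesAll D c l = true → ∀ w ∈ l, D.run w c = c
  | [], _, w, hw => by simp at hw
  | v :: l, h, w, hw => by
    simp only [fixesAll, Bool.and_eq_true] at h
    rcases List.mem_cons.mp hw with rfl | hw
    · exact Nat.eq_of_beq_eq_true h.1
    · exact fixesAll_spec h.2 w hw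

theorem lettersOK_spec {K : ℕ} : ∀ {w : List ℕ}, lettersOK K w = true → ∀ y ∈ w, y < K
  | [], _, y, hy => by simp at hy
  | z :: w, h, y, hy => by
    simp only [lettersOK, Bool.and_eq_true] at h
    rcases List.mem_cons.mp hy with rfl | hy
    · simpa [Nat.blt] using h.1
    · exact lettersOK_spec h.2 y hy

theorem allLettersOK_spec {K : ℕ} : ∀ {l : List (List ℕ)}, allLettersOK K l = true →
    ∀ w ∈ l, ∀ y ∈ w, y < K
  | [], _, w, hw => by simp at hw
  | v :: l, h, w, hw => by
    simp only [allLettersOK, Bool.and_eq_true] at h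
    rcases List.mem_cons.mp hw with rfl | hw
    · exact lettersOK_spec h.1
    · exact allLettersOK_spec h.2 w hw

/-- Everything that has to be evaluated. -/
structure Checked : Prop where
  start : fM (D.C.F.get 0) = 1
  steps : ∀ i < D.C.N, stepOK D.C i = true
  rows : ∀ c < D.n, rowOK D c = true
  lettersW : allLettersOK D.C.K D.C.W = true
  lettersS : allLettersOK D.C.K D.C.S = true
  fixS : fixesAll D 0 D.C.S = true
  pos : 0 < D.n

/-- The product of a word, first letter acting first. -/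
def wprod {G : Type*} [Group G] (g : ℕ → G) : List ℕ → G
  | [] => 1
  | y :: w => wprod g w * g y

theorem act_eq_wprod {G Q : Type*} [Group G] [MulAction G Q] (g : ℕ → G) :
    ∀ (w : List ℕ) (q : Q), act g w q = wprod g w • q
  | [], q => (one_smul G q).symm
  | y :: w, q => by rw [act, wprod, act_eq_wprod g w, mul_smul]

theorem map_wprod {G A : Type*} [Group G] [Group A] (φ : G →* A) (g : ℕ → G) :
    ∀ w : List ℕ, φ (wprod g w) = wprod (fun x => φ (g x)) w
  | [] => map_one φ
  | y :: w => by rw [wprod, wprod, map_mul, map_wprod φ g w]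

variable {D}

section Perm

variable (hD : Checked D)
include hD

theorem cell {c x : ℕ} (hc : c < D.n) (hx : x < D.C.K) :
    D.tgt c x < D.n ∧ D.tgt (D.tgt c x) x = c ∧ D.fid c x < D.C.N ∧ fX (D.C.F.get (D.fid c x)) = x ∧
      ((fU (D.C.F.get (D.fid c x)) = D.repr c ∧ fV (D.C.F.get (D.fid c x)) = D.repr (D.tgt c x)) ∨
       (fV (D.C.F.get (D.fid c x)) = D.repr c ∧ fU (D.C.F.get (D.fid c x)) = D.repr (D.tgt c x))) := by
  have h := hD.rows c hc
  simp only [rowOK, Bool.and_eq_true] at h
  have h' := cellsOK_spec D _ h.1.1 x hx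
  simp only [cellOK, Bool.and_eq_true, Bool.or_eq_true] at h'
  obtain ⟨⟨⟨⟨h1, h2⟩, h3⟩, h4⟩, h5⟩ := h'
  refine ⟨by simpa [Nat.blt] using h1, Nat.eq_of_beq_eq_true h2, by simpa [Nat.blt] using h3,
    Nat.eq_of_beq_eq_true h4, ?_⟩
  rcases h5 with ⟨a, b⟩ | ⟨a, b⟩
  · exact Or.inl ⟨Nat.eq_of_beq_eq_true a, Nat.eq_of_beq_eq_true b⟩
  · exact Or.inr ⟨Nat.eq_of_beq_eq_true a, Nat.eq_of_beq_eq_true b⟩

/-- The permutation of a letter. -/
def tau (x : ℕ) : Equiv.Perm (Fin D.n) :=
  if hx : x < D.C.K then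
    Function.Involutive.toPerm (fun c => ⟨D.tgt c x, (cell hD c.2 hx).1⟩)
      (fun c => Fin.ext (cell hD c.2 hx).2.1)
  else 1

theorem tau_apply {x : ℕ} (hx : x < D.C.K) (c : Fin D.n) : (tau hD x c : ℕ) = D.tgt c x := by
  rw [tau, dif_pos hx]; rfl

theorem tau_sq (x : ℕ) : tau hD x * tau hD x = 1 := by
  unfold tau
  split
  · next hx => exact Equiv.ext fun c => Fin.ext (cell hD c.2 hx).2.1
  · exact one_mul 1

theorem wprod_tau : ∀ (w : List ℕ), (∀ y ∈ w, y < D.C.K) → ∀ c : Fin D.n,
    (wprod (tau hD) w c : ℕ) = D.run w c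
  | [], _, c => rfl
  | y :: w, hw, c => by
    rw [wprod, Equiv.Perm.mul_apply, wprod_tau w (fun z hz => hw z (List.mem_cons_of_mem _ hz)),
      tau_apply hD (hw y List.mem_cons_self)]
    rfl

theorem tau_rel : ∀ w ∈ D.C.W, wprod (tau hD) w = 1 := fun w hw => Equiv.ext fun c => Fin.ext (by
  rw [wprod_tau hD w (allLettersOK_spec hD.lettersW w hw)]
  have h := hD.rows c c.2
  simp only [rowOK, Bool.and_eq_true] at h
  exact fixesAll_spec D h.1.2 w hw)

theorem tau_sub : ∀ w ∈ D.C.S, wprod (tau hD) w ⟨0, hD.pos⟩ = ⟨0, hD.pos⟩ := fun w hw => Fin.ext (by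
  rw [wprod_tau hD w (allLettersOK_spec hD.lettersS w hw)]
  exact fixesAll_spec D hD.fixS w hw)

variable {G : Type*} [Group G] {H : Subgroup G} (g : ℕ → G) (φ : G →* Equiv.Perm (Fin D.n))
  (hφ : ∀ x, φ (g x) = tau hD x) (hg : ∀ x, g x * g x = 1)
  (hW : ∀ w ∈ D.C.W, wprod g w = 1)
  (hgen : Subgroup.closure (g '' {x | x < D.C.K}) = ⊤)
  (hH : H = Subgroup.closure (wprod g '' {w | w ∈ D.C.S}))
include hφ hg hW hgen hH

theorem image_zero : ∀ h ∈ H, φ h ⟨0, hD.pos⟩ = ⟨0, hD.pos⟩ := by
  intro h hh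
  rw [hH] at hh
  induction hh using Subgroup.closure_induction with
  | mem y hy =>
    obtain ⟨w, hw, rfl⟩ := hy
    rw [map_wprod, funext hφ]
    exact tau_sub hD w hw
  | one => rw [map_one]; rfl
  | mul a b _ _ iha ihb => rw [map_mul, Equiv.Perm.mul_apply, ihb, iha]
  | inv a _ ih => rw [map_inv, Equiv.Perm.inv_eq_iff_eq, ih]

/-- The cosets are the rows of the table. -/
theorem exists_equiv : ∃ e : Fin D.n ≃ G ⧸ H,
    e ⟨0, hD.pos⟩ = QuotientGroup.mk 1 ∧ ∀ (a : G) (c : Fin D.n), a • e c = e (φ a c) := by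
  have hSat : Sat g D.C (QuotientGroup.mk 1 : G ⧸ H) :=
    ⟨hg, fun w hw q => by rw [act_eq_wprod, hW w hw, one_smul], fun w hw => by
      rw [act_eq_wprod, MulAction.Quotient.smul_mk, smul_eq_mul, mul_one, QuotientGroup.eq,
        mul_one, inv_mem_iff, hH]
      exact Subgroup.subset_closure ⟨w, hw, rfl⟩⟩
  obtain ⟨q, hq0, hq⟩ := exists_naming g D.C _ hSat hD.start hD.steps
  let ρ : Fin D.n → G ⧸ H := fun c => q (D.repr c)
  have hgρ : ∀ x < D.C.K, ∀ c : Fin D.n, g x • ρ c = ρ (φ (g x) c) := by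
    intro x hx c
    obtain ⟨h1, -, h3, h4, h5⟩ := cell hD c.2 hx
    have hv := hq _ h3
    unfold Valid at hv
    have he : Nat.beq x D.C.K = false := by
      cases he : Nat.beq x D.C.K
      · rfl
      · exact absurd (Nat.eq_of_beq_eq_true he) (by omega)
    rw [h4] at hv
    simp only [consLetter, he, cond_false, act] at hv
    show g x • q (D.repr c) = q (D.repr ((φ (g x) c : Fin D.n) : ℕ))
    rw [hφ, tau_apply hD hx]
    rcases h5 with ⟨a, b⟩ | ⟨a, b⟩ <;> rw [a, b] at hv
    · exact hv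
    · rw [← hv, ← mul_smul, hg, one_smul]
  have hρ : ∀ a : G, ∀ c, a • ρ c = ρ (φ a c) := by
    intro a
    have ha : a ∈ Subgroup.closure (g '' {x | x < D.C.K}) := by rw [hgen]; exact Subgroup.mem_top a
    induction ha using Subgroup.closure_induction with
    | mem y hy => obtain ⟨x, hx, rfl⟩ := hy; exact hgρ x hx
    | one => intro c; rw [one_smul, map_one]; rfl
    | mul a b _ _ iha ihb => intro c; rw [mul_smul, ihb, iha, map_mul]; rfl
    | inv a _ ih =>
      intro c
      rw [inv_smul_eq_iff, ih, map_inv, Equiv.Perm.coe_inv, Equiv.apply_symm_apply]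
  have hρ0 : ρ ⟨0, hD.pos⟩ = QuotientGroup.mk 1 := by
    have h := hD.rows 0 hD.pos
    simp only [rowOK, Bool.and_eq_true] at h
    show q (D.repr 0) = _
    rw [Nat.eq_of_beq_eq_true h.2, hq0]
  let ψ : G ⧸ H → Fin D.n := fun p => Quotient.liftOn' p (fun a => φ a ⟨0, hD.pos⟩) fun a b hab => by
    rw [QuotientGroup.leftRel_apply] at hab
    calc φ a ⟨0, hD.pos⟩ = φ a (φ (a⁻¹ * b) ⟨0, hD.pos⟩) := by
          rw [image_zero hD g φ hφ hg hW hgen hH _ hab]
      _ = φ b ⟨0, hD.pos⟩ := by rw [← Equiv.Perm.mul_apply, ← map_mul, mul_inv_cancel_left]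
  have hψ : ∀ (a : G) (p : G ⧸ H), ψ (a • p) = φ a (ψ p) := fun a p =>
    QuotientGroup.induction_on p fun b => by
      show φ (a * b) _ = φ a (φ b _)
      rw [map_mul]; rfl
  have hright : ∀ p, ρ (ψ p) = p := fun p => QuotientGroup.induction_on p fun a => by
    show ρ (φ a ⟨0, hD.pos⟩) = _
    rw [← hρ, hρ0, MulAction.Quotient.smul_mk, smul_eq_mul, mul_one]
  have hleft : ∀ c, ψ (ρ c) = c := by
    suffices ∀ m, ∀ c : Fin D.n, (c : ℕ) = m → ψ (ρ c) = c from fun c => this c c rfl
    intro m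
    induction m using Nat.strong_induction_on with
    | _ m ih =>
      intro c hc
      cases m with
      | zero =>
        obtain rfl : c = ⟨0, hD.pos⟩ := Fin.ext hc
        rw [hρ0]
        show φ 1 _ = _
        rw [map_one]; rfl
      | succ m =>
        have h := hD.rows c c.2
        rw [hc] at h
        simp only [rowOK, Bool.and_eq_true] at h
        obtain ⟨-, h1, h2⟩ := h
        have hx : D.parent (m + 1) < D.C.K := by simpa [Nat.blt] using h1
        have hlt : D.tgt (m + 1) (D.parent (m + 1)) < m + 1 := by simpa [Nat.blt] using h2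
        set x := D.parent (m + 1)
        obtain ⟨d, hd⟩ : ∃ d, d = φ (g x) c := ⟨_, rfl⟩
        have hdv : (d : ℕ) = D.tgt (m + 1) x := by rw [hd, hφ, tau_apply hD hx, hc]
        have hback : φ (g x) d = c := by
          rw [hd, ← Equiv.Perm.mul_apply, ← map_mul, hg, map_one]; rfl
        rw [← hback, ← hρ, hψ, ih _ hlt d hdv]
  exact ⟨⟨ρ, ψ, hleft, hright⟩, hρ0, hρ⟩

theorem index_eq : H.index = D.n := by
  obtain ⟨e, -, -⟩ := exists_equiv hD g φ hφ hg hW hgen hH
  rw [Subgroup.index_eq_card, ← Nat.card_congr e, Nat.card_fin]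

end Perm

/-! ### Orbits of the subgroup -/

/-- Orbit data: the label, the parent, the index of the subgroup generator and the depth of each row. -/
structure Orbits where
  O : Tree
  roots : List ℕ

def Orbits.label (P : Orbits) (c : ℕ) : ℕ := Nat.land (P.O.get c) 15
def Orbits.par (P : Orbits) (c : ℕ) : ℕ := Nat.land (Nat.shiftRight (P.O.get c) 4) 1048575
def Orbits.gen (P : Orbits) (c : ℕ) : ℕ := Nat.land (Nat.shiftRight (P.O.get c) 24) 255
def Orbits.depth (P : Orbits) (c : ℕ) : ℕ := Nat.shiftRight (P.O.get c) 32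

def rootAt : List ℕ → ℕ → ℕ
  | [], _ => 0
  | r :: _, 0 => r
  | _ :: l, i + 1 => rootAt l i

def labelsFixed (D : Table) (P : Orbits) (c : ℕ) : List (List ℕ) → Bool
  | [] => true
  | w :: l => Nat.beq (P.label (D.run w c)) (P.label c) && labelsFixed D P c l

def orbitOK (D : Table) (P : Orbits) (c : ℕ) : Bool :=
  labelsFixed D P c D.C.S &&
    match P.depth c with
    | 0 => Nat.beq (rootAt P.roots (P.label c)) c
    | k + 1 => Nat.blt (P.par c) D.n && Nat.beq (P.depth (P.par c)) k &&
        Nat.beq (D.run (getWord D.C.S (P.gen c)) (P.par c)) c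

def orbitsOK (D : Table) (P : Orbits) : ℕ → ℕ → Bool
  | _, 0 => true
  | a, n + 1 => orbitOK D P a && orbitsOK D P (Nat.succ a) n

theorem orbitsOK_spec (D : Table) (P : Orbits) : ∀ n a, orbitsOK D P a n = true →
    ∀ i, a ≤ i → i < a + n → orbitOK D P i = true := by
  intro n
  induction n with
  | zero => intro a _ i h1 h2; omega
  | succ n ih =>
    intro a h i h1 h2
    simp only [orbitsOK, Bool.and_eq_true] at h
    rcases Nat.eq_or_lt_of_le h1 with e | e
    · exact e ▸ h.1
    · exact ih (Nat.succ a) h.2 i (by omega) (by omega)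

/-- The number of rows `< n` with a given label. -/
def countLabel (P : Orbits) (l : ℕ) : ℕ → ℕ
  | 0 => 0
  | n + 1 => cond (Nat.beq (P.label n) l) (Nat.succ (countLabel P l n)) (countLabel P l n)

theorem countLabel_eq (P : Orbits) (l : ℕ) : ∀ n, countLabel P l n = ((Finset.range n).filter fun c => P.label c = l).card
  | 0 => rfl
  | n + 1 => by
    rw [countLabel, Finset.range_add_one, Finset.filter_insert, countLabel_eq P l n]
    cases h : Nat.beq (P.label n) l
    · rw [if_neg fun e => by rw [e] at h; simp at h, cond_false]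
    · rw [if_pos (Nat.eq_of_beq_eq_true h), Finset.card_insert_of_notMem (by simp), cond_true]

section Orbit

variable (hD : Checked D) {G : Type*} [Group G] {H : Subgroup G} (g : ℕ → G) (φ : G →* Equiv.Perm (Fin D.n))
  (hφ : ∀ x, φ (g x) = tau hD x) (hg : ∀ x, g x * g x = 1)
  (hW : ∀ w ∈ D.C.W, wprod g w = 1)
  (hgen : Subgroup.closure (g '' {x | x < D.C.K}) = ⊤)
  (hH : H = Subgroup.closure (wprod g '' {w | w ∈ D.C.S}))
include hD hφ hg hW hgen hH

theorem orbit_sizes (P : Orbits) (hP : ∀ c < D.n, orbitOK D P c = true) :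
    ∃ e : Fin D.n ≃ G ⧸ H, ∀ l : ℕ, ∀ hr : rootAt P.roots l < D.n, P.label (rootAt P.roots l) = l →
      MulAction.orbit H (e ⟨rootAt P.roots l, hr⟩) = e '' {c : Fin D.n | P.label c = l} ∧
      (MulAction.orbit H (e ⟨rootAt P.roots l, hr⟩)).ncard = countLabel P l D.n := by
  obtain ⟨e, -, he⟩ := exists_equiv hD g φ hφ hg hW hgen hH
  refine ⟨e, fun l hr hl => ?_⟩
  have hfix : ∀ h ∈ H, ∀ c : Fin D.n, P.label (φ h c) = P.label c := by
    intro h hh
    rw [hH] at hh
    induction hh using Subgroup.closure_induction with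
    | mem y hy =>
      obtain ⟨w, hw, rfl⟩ := hy
      intro c
      rw [map_wprod, funext hφ, wprod_tau hD w (allLettersOK_spec hD.lettersS w hw)]
      have h := hP c c.2
      simp only [orbitOK, Bool.and_eq_true] at h
      exact aux D P c h.1 w hw
    | one => intro c; rw [map_one]; rfl
    | mul a b _ _ iha ihb => intro c; rw [map_mul, Equiv.Perm.mul_apply, iha, ihb]
    | inv a _ ih =>
      intro c
      have := ih (φ a⁻¹ c)
      rw [← Equiv.Perm.mul_apply, ← map_mul, mul_inv_cancel, map_one, Equiv.Perm.one_apply] at this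
      exact this.symm
  have hreach : ∀ k, ∀ c : Fin D.n, P.depth c = k → P.label c = l →
      ∃ h ∈ H, φ h ⟨rootAt P.roots l, hr⟩ = c := by
    intro k
    induction k with
    | zero =>
      intro c hk hc
      have h := hP c c.2
      simp only [orbitOK, hk, Bool.and_eq_true] at h
      refine ⟨1, one_mem H, ?_⟩
      rw [map_one]
      refine Fin.ext ?_
      show rootAt P.roots l = (c : ℕ)
      rw [← hc]; exact Nat.eq_of_beq_eq_true h.2
    | succ k ih =>
      intro c hk hc
      have h := hP c c.2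
      simp only [orbitOK, hk, Bool.and_eq_true] at h
      obtain ⟨-, ⟨h1, h2⟩, h3⟩ := h
      have hp : P.par c < D.n := by simpa [Nat.blt] using h1
      set w := getWord D.C.S (P.gen c)
      rcases getWord_mem (l := D.C.S) (n := P.gen c) with hw | hw
      · have hmem : wprod g w ∈ H := hH ▸ Subgroup.subset_closure ⟨w, hw, rfl⟩
        have hval : φ (wprod g w) ⟨P.par c, hp⟩ = c := Fin.ext (by
          rw [map_wprod, funext hφ, wprod_tau hD w (allLettersOK_spec hD.lettersS w hw)]
          exact Nat.eq_of_beq_eq_true h3)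
        obtain ⟨h', hh', he'⟩ := ih ⟨P.par c, hp⟩ (Nat.eq_of_beq_eq_true h2) (by
          have := hfix _ hmem ⟨P.par c, hp⟩
          rw [hval, hc] at this
          exact this.symm)
        exact ⟨wprod g w * h', mul_mem hmem hh', by rw [map_mul, Equiv.Perm.mul_apply, he', hval]⟩
      · exfalso
        have h4 : P.par c = c := by
          have := Nat.eq_of_beq_eq_true h3
          rwa [show w = [] from hw] at this
        have := Nat.eq_of_beq_eq_true h2
        rw [h4, hk] at this
        omega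
  have horb : MulAction.orbit H (e ⟨rootAt P.roots l, hr⟩) = e '' {c : Fin D.n | P.label c = l} := by
    ext p
    constructor
    · rintro ⟨⟨h, hh⟩, rfl⟩
      refine ⟨φ h ⟨rootAt P.roots l, hr⟩, (hfix h hh _).trans hl, ?_⟩
      exact (he h _).symm
    · rintro ⟨c, hc, rfl⟩
      obtain ⟨h, hh, rfl⟩ := hreach _ c rfl hc
      exact ⟨⟨h, hh⟩, he h _⟩
  refine ⟨horb, ?_⟩
  rw [horb, Set.ncard_image_of_injective _ e.injective, countLabel_eq, Set.ncard_eq_toFinset_card']
  refine Finset.card_bij (fun c _ => (c : ℕ)) (fun c hc => ?_) (fun a _ b _ h => Fin.ext h)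
    fun b hb => ?_
  · simp only [Set.mem_toFinset, Set.mem_setOf_eq] at hc
    simp [c.2, hc]
  · simp only [Finset.mem_filter, Finset.mem_range] at hb
    exact ⟨⟨b, hb.1⟩, by simpa using hb.2, rfl⟩
where
  aux (D : Table) (P : Orbits) (c : ℕ) : ∀ {l : List (List ℕ)}, labelsFixed D P c l = true →
      ∀ w ∈ l, P.label (D.run w c) = P.label c := by
    intro l
    induction l with
    | nil => intro _ w hw; simp at hw
    | cons v l ih =>
      intro h w hw
      simp only [labelsFixed, Bool.and_eq_true] at h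
      rcases List.mem_cons.mp hw with rfl | hw
      · exact Nat.eq_of_beq_eq_true h.1
      · exact ih h.2 w hw

end Orbit

end Cfsg.Agent.CosetCert
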