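import Cfsg.Prelude.Def_SporCoxeter
import Cfsg.Agent.Lib.CosetCert.Table

/-!
# Coset tables for presentations on a Coxeter graph
-/

set_option autoImplicit false
set_option linter.all false

noncomputable section

namespace Cfsg.Agent.CosetCert

theorem steps_zero (C : Cert) : ∀ i < 0, stepOK C i = true := fun i hi => absurd hi (by omega)

theorem steps_add {C : Cert} (a n : ℕ) (h : ∀ i < a, stepOK C i = true) (h' : rangeOK C a n = true) :
    ∀ i < a + n, stepOK C i = true := fun i hi =>
  (Nat.lt_or_ge i a).elim (h i) fun ha => rangeOK_spec C n a h' i ha hi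

theorem rows_zero (D : Table) : ∀ i < 0, rowOK D i = true := fun i hi => absurd hi (by omega)

theorem rows_add {D : Table} (a n : ℕ) (h : ∀ i < a, rowOK D i = true) (h' : rowsOK D a n = true) :
    ∀ i < a + n, rowOK D i = true := fun i hi =>
  (Nat.lt_or_ge i a).elim (h i) fun ha => rowsOK_spec D n a h' i ha hi

theorem orbits_zero (D : Table) (P : Orbits) : ∀ i < 0, orbitOK D P i = true := fun i hi => absurd hi (by omega)

theorem orbits_add {D : Table} {P : Orbits} (a n : ℕ) (h : ∀ i < a, orbitOK D P i = true)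
    (h' : orbitsOK D P a n = true) : ∀ i < a + n, orbitOK D P i = true := fun i hi =>
  (Nat.lt_or_ge i a).elim (h i) fun ha => orbitsOK_spec D P n a h' i ha hi

open Cfsg.Spor

/-- The words of the graph relators. -/
def coxW {α : Type*} [DecidableEq α] (idx : α → ℕ) (edges : List (α × ℕ × α)) (enum : List α) : List (List ℕ) :=
  enum.flatMap fun x => enum.map fun y => (List.replicate (coxLabel edges x y) [idx y, idx x]).flatten

theorem wprod_append {A : Type*} [Group A] (g : ℕ → A) : ∀ u v : List ℕ, wprod g (u ++ v) = wprod g v * wprod g u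
  | [], v => by rw [List.nil_append]; exact (mul_one _).symm
  | y :: u, v => by rw [List.cons_append, wprod, wprod, wprod_append g u v, mul_assoc]

theorem wprod_replicate {A : Type*} [Group A] (g : ℕ → A) (a b : ℕ) :
    ∀ m, wprod g (List.replicate m [a, b]).flatten = (g b * g a) ^ m
  | 0 => by rw [pow_zero]; rfl
  | m + 1 => by
    rw [List.replicate_succ, List.flatten_cons, wprod_append, wprod_replicate g a b m, pow_succ]
    simp [wprod]

/-- How a presentation is read off a table. -/
structure CoxData {α : Type} [DecidableEq α] (edges : List (α × ℕ × α)) (extra : List (FreeGroup α))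
    (D : Table) where
  idx : α → ℕ
  ofIdx : ℕ → α
  enum : List α
  extW : List (List ℕ)
  left : ∀ x, ofIdx (idx x) = x
  right : ∀ i < D.C.K, idx (ofIdx i) = i
  lt : ∀ x, idx x < D.C.K
  mem : ∀ x, x ∈ enum
  node : ∀ x, x ∈ coxNodes edges
  words : D.C.W = coxW idx edges enum ++ extW
  ext : ∀ (A : Type) [Group A] (f : α → A) (g : ℕ → A), (∀ x, f x * f x = 1) → (∀ x, g (idx x) = f x) →
    extra.map (FreeGroup.lift f) = extW.map (wprod g)

variable {α : Type} [DecidableEq α] {edges : List (α × ℕ × α)} {extra : List (FreeGroup α)} {D : Table}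
  (P : CoxData edges extra D)

/-- Every relator is a word of the table. -/
theorem CoxData.relator {A : Type} [Group A] (f : α → A) (g : ℕ → A) (hf : ∀ x, f x * f x = 1)
    (hg : ∀ x, g (P.idx x) = f x) :
    (∀ r ∈ coxRelators edges ∪ {r | r ∈ extra}, ∃ w ∈ D.C.W, FreeGroup.lift f r = wprod g w) ∧
      ∀ w ∈ D.C.W, ∃ r ∈ coxRelators edges ∪ {r | r ∈ extra}, FreeGroup.lift f r = wprod g w := by
  have hcox : ∀ x y : α, FreeGroup.lift f ((FreeGroup.of x * FreeGroup.of y) ^ coxLabel edges x y) =
      wprod g (List.replicate (coxLabel edges x y) [P.idx y, P.idx x]).flatten := fun x y => by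
    rw [wprod_replicate, hg, hg, map_pow, map_mul, FreeGroup.lift_apply_of, FreeGroup.lift_apply_of]
  have hext := P.ext A f g hf hg
  constructor
  · rintro r (⟨x, -, y, -, rfl⟩ | hr)
    · refine ⟨_, ?_, hcox x y⟩
      rw [P.words]
      exact List.mem_append_left _ (List.mem_flatMap.mpr ⟨x, P.mem x, List.mem_map.mpr ⟨y, P.mem y, rfl⟩⟩)
    · have : FreeGroup.lift f r ∈ P.extW.map (wprod g) := hext ▸ List.mem_map.mpr ⟨r, hr, rfl⟩
      obtain ⟨w, hw, e⟩ := List.mem_map.mp this
      exact ⟨w, P.words ▸ List.mem_append_right _ hw, e.symm⟩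
  · intro w hw
    rw [P.words] at hw
    rcases List.mem_append.mp hw with hw | hw
    · obtain ⟨x, -, hx⟩ := List.mem_flatMap.mp hw
      obtain ⟨y, -, rfl⟩ := List.mem_map.mp hx
      exact ⟨_, Or.inl ⟨x, P.node x, y, P.node y, rfl⟩, hcox x y⟩
    · have : wprod g w ∈ extra.map (FreeGroup.lift f) := hext ▸ List.mem_map.mpr ⟨w, hw, rfl⟩
      obtain ⟨r, hr, e⟩ := List.mem_map.mp this
      exact ⟨r, Or.inr hr, e⟩

/-- The images of the generators. -/
def CoxData.gen (x : ℕ) : CoxPresented α edges extra :=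
  if x < D.C.K then PresentedGroup.of (P.ofIdx x) else 1

theorem CoxData.gen_idx (x : α) : P.gen (P.idx x) = PresentedGroup.of x := by
  rw [CoxData.gen, if_pos (P.lt x), P.left]

include P in
theorem CoxData.of_sq (x : α) :
    (PresentedGroup.of x : CoxPresented α edges extra) * PresentedGroup.of x = 1 := by
  have h : PresentedGroup.mk (coxRelators edges ∪ {r | r ∈ extra})
      ((FreeGroup.of x * FreeGroup.of x) ^ coxLabel edges x x) = 1 :=
    PresentedGroup.one_of_mem (Or.inl ⟨x, P.node x, x, P.node x, rfl⟩)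
  rw [map_pow, map_mul, coxLabel, if_pos rfl, pow_one] at h
  exact h

theorem CoxData.gen_sq (x : ℕ) : P.gen x * P.gen x = 1 := by
  unfold CoxData.gen
  split
  · exact P.of_sq _
  · exact one_mul 1

theorem lift_of_mk (r : FreeGroup α) :
    FreeGroup.lift (fun x => (PresentedGroup.of x : CoxPresented α edges extra)) r =
      PresentedGroup.mk _ r := by
  exact DFunLike.congr_fun (FreeGroup.ext_hom (FreeGroup.lift (fun x => (PresentedGroup.of x :
    CoxPresented α edges extra))) (PresentedGroup.mk (coxRelators edges ∪ {r | r ∈ extra}))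
    (fun a => by rw [FreeGroup.lift_apply_of]; rfl)) r

theorem CoxData.gen_rel : ∀ w ∈ D.C.W, wprod P.gen w = 1 := fun w hw => by
  obtain ⟨r, hr, e⟩ := (P.relator _ P.gen P.of_sq P.gen_idx).2 w hw
  rw [← e, lift_of_mk]
  exact PresentedGroup.one_of_mem hr

theorem CoxData.gen_top : Subgroup.closure (P.gen '' {x | x < D.C.K}) = ⊤ := by
  rw [eq_top_iff, ← PresentedGroup.closure_range_of, Subgroup.closure_le]
  rintro _ ⟨x, rfl⟩
  exact Subgroup.subset_closure ⟨P.idx x, P.lt x, P.gen_idx x⟩

variable (hD : Checked D)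

/-- The action on the table. -/
def CoxData.hom : CoxPresented α edges extra →* Equiv.Perm (Fin D.n) :=
  PresentedGroup.toGroup (f := fun x => tau hD (P.idx x)) fun r hr => by
    obtain ⟨w, hw, e⟩ := (P.relator (fun x => tau hD (P.idx x)) (tau hD) (fun x => tau_sq hD _)
      (fun _ => rfl)).1 r hr
    rw [e, tau_rel hD w hw]

theorem CoxData.hom_gen (x : ℕ) : P.hom hD (P.gen x) = tau hD x := by
  unfold CoxData.gen
  split
  · next hx => rw [CoxData.hom, PresentedGroup.toGroup.of, P.right x hx]
  · next hx => rw [map_one, tau, dif_neg hx]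

theorem CoxData.map_closure (s : Set (FreeGroup α)) (l : List (FreeGroup α)) (hs : s = {r | r ∈ l})
    (hl : ∀ (A : Type) [Group A] (f : α → A) (g : ℕ → A), (∀ x, f x * f x = 1) → (∀ x, g (P.idx x) = f x) →
      l.map (FreeGroup.lift f) = D.C.S.map (wprod g)) :
    (Subgroup.closure s).map (PresentedGroup.mk (coxRelators edges ∪ {r | r ∈ extra})) =
      Subgroup.closure (wprod P.gen '' {w | w ∈ D.C.S}) := by
  have h := hl _ (fun x => (PresentedGroup.of x : CoxPresented α edges extra)) P.gen P.of_sq P.gen_idx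
  rw [MonoidHom.map_closure, hs]
  congr 1
  ext p
  constructor
  · rintro ⟨r, hr, rfl⟩
    have : PresentedGroup.mk _ r ∈ D.C.S.map (wprod P.gen) :=
      h ▸ List.mem_map.mpr ⟨r, hr, lift_of_mk r⟩
    obtain ⟨w, hw, e⟩ := List.mem_map.mp this
    exact ⟨w, hw, e⟩
  · rintro ⟨w, hw, rfl⟩
    have : wprod P.gen w ∈ l.map (FreeGroup.lift fun x => (PresentedGroup.of x : CoxPresented α edges extra)) :=
      h ▸ List.mem_map.mpr ⟨w, hw, rfl⟩
    obtain ⟨r, hr, e⟩ := List.mem_map.mp this
    exact ⟨r, hr, by rw [← lift_of_mk, e]⟩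

end Cfsg.Agent.CosetCert
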