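import Cfsg.Agent.Lib.CosetCert.Table

/-!
# Bounds on orders from certificates: lower bounds by orbits

A level names a point, the witness tree of the orbit of the point under the current permutations, and words in the
current permutations which fix the point and give the permutations of the next level.
-/

set_option autoImplicit false
set_option linter.all false

noncomputable section

namespace Cfsg.Agent.CosetCert

def pat (p c : ℕ) : ℕ := Nat.land (Nat.shiftRight p (Nat.mul 20 c)) 1048575

def runP (ps : List ℕ) (w : List ℕ) : ℕ → ℕ :=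
  List.rec (motive := fun _ => ℕ → ℕ) (fun c => c) (fun y _ ih c => ih (pat (nthNat ps y) c)) w

/-- A level. -/
structure Level where
  pt : ℕ
  m : ℕ
  O : Tree
  next : List ℕ
  words : List (List ℕ)

def markOK (ps : List ℕ) (L : Level) (c : ℕ) : Bool :=
  let v := L.O.get c
  match Nat.shiftRight v 28 with
  | 0 => true
  | 1 => Nat.beq c L.pt
  | k + 2 => Nat.blt (Nat.land v 255) ps.length &&
      Nat.beq (Nat.shiftRight (L.O.get (Nat.land (Nat.shiftRight v 8) 1048575)) 28) (Nat.succ k) &&
      Nat.beq (pat (nthNat ps (Nat.land v 255)) (Nat.land (Nat.shiftRight v 8) 1048575)) c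

def marksOK (ps : List ℕ) (L : Level) : ℕ → Bool
  | 0 => true
  | c + 1 => markOK ps L c && marksOK ps L c

def countMarks (L : Level) : ℕ → ℕ
  | 0 => 0
  | c + 1 => cond (Nat.beq (Nat.shiftRight (L.O.get c) 28) 0) (countMarks L c) (Nat.succ (countMarks L c))

def wordLetters (k : ℕ) : List ℕ → Bool
  | [] => true
  | y :: w => Nat.blt y k && wordLetters k w

def permEq (ps : List ℕ) (w : List ℕ) (p : ℕ) : ℕ → Bool
  | 0 => true
  | c + 1 => Nat.beq (runP ps w c) (pat p c) && permEq ps w p c

def defsOK (n : ℕ) (ps : List ℕ) (pt : ℕ) : List ℕ → List (List ℕ) → Bool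
  | [], [] => true
  | p :: l, w :: ws => wordLetters ps.length w && permEq ps w p n && Nat.beq (runP ps w pt) pt &&
      defsOK n ps pt l ws
  | _, _ => false

def parsBelow (n : ℕ) (L : Level) : ℕ → Bool
  | 0 => true
  | c + 1 => Nat.blt (Nat.land (Nat.shiftRight (L.O.get c) 8) 1048575) n && parsBelow n L c

def levelOK (n : ℕ) (ps : List ℕ) (L : Level) : Bool :=
  Nat.blt L.pt n && marksOK ps L n && parsBelow n L n && Nat.beq (countMarks L n) L.m && defsOK n ps L.pt L.next L.words

def levelsOK (n : ℕ) : List ℕ → List Level → Bool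
  | _, [] => true
  | ps, L :: Ls => levelOK n ps L && levelsOK n L.next Ls

def prodM : List Level → ℕ
  | [] => 1
  | L :: Ls => L.m * prodM Ls

theorem marksOK_spec {ps : List ℕ} {L : Level} : ∀ n, marksOK ps L n = true → ∀ c < n, markOK ps L c = true
  | 0, _, c, hc => absurd hc (by omega)
  | n + 1, h, c, hc => by
    simp only [marksOK, Bool.and_eq_true] at h
    rcases Nat.lt_succ_iff_lt_or_eq.mp hc with e | rfl
    · exact marksOK_spec n h.2 c e
    · exact h.1

theorem parsBelow_spec {n : ℕ} {L : Level} :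
    ∀ m, parsBelow n L m = true → ∀ c < m, Nat.land (Nat.shiftRight (L.O.get c) 8) 1048575 < n
  | 0, _, c, hc => absurd hc (by omega)
  | m + 1, h, c, hc => by
    simp only [parsBelow, Bool.and_eq_true] at h
    rcases Nat.lt_succ_iff_lt_or_eq.mp hc with e | rfl
    · exact parsBelow_spec m h.2 c e
    · simpa [Nat.blt] using h.1

theorem permEq_spec {ps w : List ℕ} {p : ℕ} : ∀ n, permEq ps w p n = true → ∀ c < n, runP ps w c = pat p c
  | 0, _, c, hc => absurd hc (by omega)
  | n + 1, h, c, hc => by
    simp only [permEq, Bool.and_eq_true] at h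
    rcases Nat.lt_succ_iff_lt_or_eq.mp hc with e | rfl
    · exact permEq_spec n h.2 c e
    · exact Nat.eq_of_beq_eq_true h.1

/-- The packed numbers are permutations in a subgroup. -/
def Realises {n : ℕ} (K : Subgroup (Equiv.Perm (Fin n))) (ps : List ℕ) : Prop :=
  ∀ y < ps.length, ∃ σ ∈ K, ∀ c : Fin n, (σ c : ℕ) = pat (nthNat ps y) c

theorem word_real {n : ℕ} {K : Subgroup (Equiv.Perm (Fin n))} {ps : List ℕ} (h : Realises K ps) :
    ∀ w : List ℕ, wordLetters ps.length w = true → ∃ σ ∈ K, ∀ c : Fin n, (σ c : ℕ) = runP ps w c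
  | [], _ => ⟨1, one_mem K, fun c => rfl⟩
  | y :: w, hw => by
    simp only [wordLetters, Bool.and_eq_true] at hw
    obtain ⟨σ, hσ, hσc⟩ := h y (by simpa [Nat.blt] using hw.1)
    obtain ⟨τ, hτ, hτc⟩ := word_real h w hw.2
    exact ⟨τ * σ, mul_mem hτ hσ, fun c => by
      rw [Equiv.Perm.mul_apply, hτc, hσc]; rfl⟩

theorem defs_real {n : ℕ} {K : Subgroup (Equiv.Perm (Fin n))} {ps : List ℕ} (h : Realises K ps) (pt : Fin n) :
    ∀ (l : List ℕ) (ws : List (List ℕ)), defsOK n ps pt l ws = true →
      Realises (K ⊓ MulAction.stabilizer (Equiv.Perm (Fin n)) pt) l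
  | [], _, _, y, hy => absurd hy (by simp)
  | p :: l, [], hd, y, _ => by simp [defsOK] at hd
  | p :: l, w :: ws, hd, y, hy => by
    simp only [defsOK, Bool.and_eq_true] at hd
    obtain ⟨⟨⟨h1, h2⟩, h3⟩, h4⟩ := hd
    cases y with
    | zero =>
      obtain ⟨σ, hσ, hσc⟩ := word_real h w h1
      refine ⟨σ, ⟨hσ, Fin.ext ((hσc pt).trans (Nat.eq_of_beq_eq_true h3))⟩, fun c => ?_⟩
      rw [hσc]
      exact permEq_spec n h2 c c.2
    | succ y => exact defs_real h pt l ws h4 y (by simpa using hy)

theorem marks_orbit {n : ℕ} {K : Subgroup (Equiv.Perm (Fin n))} {ps : List ℕ} (h : Realises K ps) {L : Level}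
    (hm : ∀ c < n, markOK ps L c = true)
    (hb : ∀ c < n, Nat.land (Nat.shiftRight (L.O.get c) 8) 1048575 < n) (hpt : L.pt < n) :
    ∀ (k : ℕ) (c : Fin n), Nat.shiftRight (L.O.get c) 28 = k + 1 → c ∈ MulAction.orbit K (⟨L.pt, hpt⟩ : Fin n) := by
  intro k
  induction k with
  | zero =>
    intro c hc
    have h1 := hm c c.2
    simp only [markOK, hc] at h1
    rw [show c = ⟨L.pt, hpt⟩ from Fin.ext (Nat.eq_of_beq_eq_true h1)]
    exact MulAction.mem_orbit_self _
  | succ k ih =>
    intro c hc
    have h1 := hm c c.2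
    simp only [markOK, hc, Bool.and_eq_true] at h1
    obtain ⟨⟨h2, h3⟩, h4⟩ := h1
    set p := Nat.land (Nat.shiftRight (L.O.get c) 8) 1048575
    obtain ⟨σ, hσ, hσc⟩ := h _ (by simpa [Nat.blt] using h2 : Nat.land (L.O.get c) 255 < ps.length)
    have hp : p < n := hb c c.2
    have := ih ⟨p, hp⟩ (Nat.eq_of_beq_eq_true h3)
    rw [show c = σ ⟨p, hp⟩ from Fin.ext ((Nat.eq_of_beq_eq_true h4).symm.trans (hσc ⟨p, hp⟩).symm)]
    exact MulAction.mem_orbit_of_mem_orbit (⟨σ, hσ⟩ : K) this

/-- Product of the orbit lengths. -/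
theorem prodM_le {n : ℕ} : ∀ (Ls : List Level) (ps : List ℕ) (K : Subgroup (Equiv.Perm (Fin n))),
    Realises K ps → levelsOK n ps Ls = true → prodM Ls ≤ Nat.card K
  | [], _, K, _, _ => Nat.card_pos
  | L :: Ls, ps, K, hps, hok => by
    simp only [levelsOK, levelOK, Bool.and_eq_true] at hok
    obtain ⟨⟨⟨⟨⟨hpt, hmarks⟩, hpars⟩, hcount⟩, hdefs⟩, hrest⟩ := hok
    have hpt' : L.pt < n := by simpa [Nat.blt] using hpt
    set pt : Fin n := ⟨L.pt, hpt'⟩
    set K' := K ⊓ MulAction.stabilizer (Equiv.Perm (Fin n)) pt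
    have hrec := prodM_le Ls L.next K' (defs_real hps pt _ _ hdefs) hrest
    have horb : L.m ≤ Nat.card (MulAction.orbit K pt) := by
      rw [← Nat.eq_of_beq_eq_true hcount]
      have hsub : ((Finset.univ : Finset (Fin n)).filter fun c : Fin n => Nat.shiftRight (L.O.get c) 28 ≠ 0).card ≤
          Nat.card (MulAction.orbit K pt) := by
        classical
        rw [Nat.card_eq_fintype_card, ← Set.toFinset_card]
        refine Finset.card_le_card fun c hc => ?_
        rw [Set.mem_toFinset]
        obtain ⟨k, hk⟩ := Nat.exists_eq_succ_of_ne_zero (Finset.mem_filter.mp hc).2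
        exact marks_orbit hps (marksOK_spec n hmarks) (parsBelow_spec n hpars) hpt' k c hk
      refine le_trans (le_of_eq ?_) hsub
      have hcnt : ∀ m, countMarks L m = ((Finset.range m).filter fun c => Nat.shiftRight (L.O.get c) 28 ≠ 0).card := by
        intro m
        induction m with
        | zero => rfl
        | succ m ih =>
          rw [countMarks, Finset.range_add_one, Finset.filter_insert, ih]
          cases h : Nat.beq (Nat.shiftRight (L.O.get m) 28) 0
          · rw [if_pos fun e => by rw [e] at h; simp at h, Finset.card_insert_of_notMem (by simp), cond_false]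
          · rw [if_neg (fun e => e (Nat.eq_of_beq_eq_true h)), cond_true]
      rw [hcnt]
      symm
      refine Finset.card_bij (fun c _ => (c : ℕ)) (fun c hc => ?_) (fun a _ b _ h => Fin.ext h) fun b hb => ?_
      · simp only [Finset.mem_filter, Finset.mem_range]
        exact ⟨c.2, (Finset.mem_filter.mp hc).2⟩
      · simp only [Finset.mem_filter, Finset.mem_range] at hb
        exact ⟨⟨b, hb.1⟩, by simpa using hb.2, rfl⟩
    have hstab : Nat.card K' = Nat.card (MulAction.stabilizer K pt) :=
      Nat.card_congr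
        { toFun := fun x => ⟨⟨x.1, x.2.1⟩, x.2.2⟩
          invFun := fun x => ⟨x.1.1, x.1.2, x.2⟩
          left_inv := fun x => rfl
          right_inv := fun x => rfl }
    calc prodM (L :: Ls) = L.m * prodM Ls := rfl
      _ ≤ Nat.card (MulAction.orbit K pt) * Nat.card K' := Nat.mul_le_mul horb hrec
      _ = Nat.card K := by
        rw [hstab, ← Nat.card_prod]
        exact (Nat.card_congr (MulAction.orbitProdStabilizerEquivGroup K pt))

end Cfsg.Agent.CosetCert
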