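import Cfsg.Agent.Lib.CosetCert.Table

/-!
# Simplicity from a coset table

If the action on the table is faithful and primitive, `p` is prime and does not divide the order of the point
stabiliser, then every nontrivial normal subgroup contains all elements `x` with `x ^ p = 1`.
-/

set_option autoImplicit false
set_option linter.all false

noncomputable section

namespace Cfsg.Agent.CosetCert

theorem labels_inv {D : Table} {P : Orbits} {c : ℕ} : ∀ {l : List (List ℕ)}, labelsFixed D P c l = true →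
    ∀ w ∈ l, P.label (D.run w c) = P.label c
  | [], _, w, hw => by simp at hw
  | v :: l, h, w, hw => by
    simp only [labelsFixed, Bool.and_eq_true] at h
    rcases List.mem_cons.mp hw with rfl | hw
    · exact Nat.eq_of_beq_eq_true h.1
    · exact labels_inv h.2 w hw

theorem reach {D : Table} (hD : Checked D) {G : Type*} [Group G] {H : Subgroup G} (g : ℕ → G)
    (φ : G →* Equiv.Perm (Fin D.n)) (hφ : ∀ x, φ (g x) = tau hD x) (hg : ∀ x, g x * g x = 1)
    (hW : ∀ w ∈ D.C.W, wprod g w = 1) (hgen : Subgroup.closure (g '' {x | x < D.C.K}) = ⊤)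
    (hH : H = Subgroup.closure (wprod g '' {w | w ∈ D.C.S})) (P : Orbits)
    (hP : ∀ c < D.n, orbitOK D P c = true) :
    ∀ k, ∀ c : Fin D.n, P.depth c = k → ∀ r : Fin D.n, (r : ℕ) = rootAt P.roots (P.label c) →
      ∃ h ∈ H, φ h r = c := by
  intro k
  induction k with
  | zero =>
    intro c hk r hr
    have h := hP c c.2
    simp only [orbitOK, hk, Bool.and_eq_true] at h
    exact ⟨1, one_mem H, by rw [map_one]; exact Fin.ext (hr.trans (Nat.eq_of_beq_eq_true h.2))⟩
  | succ k ih =>
    intro c hk r hr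
    have h := hP c c.2
    simp only [orbitOK, hk, Bool.and_eq_true] at h
    obtain ⟨hlab, ⟨h1, h2⟩, h3⟩ := h
    have hp : P.par c < D.n := by simpa [Nat.blt] using h1
    set w := getWord D.C.S (P.gen c)
    rcases getWord_mem (l := D.C.S) (n := P.gen c) with hw | hw
    · have hmem : wprod g w ∈ H := hH ▸ Subgroup.subset_closure ⟨w, hw, rfl⟩
      have hval : φ (wprod g w) ⟨P.par c, hp⟩ = c := Fin.ext (by
        rw [map_wprod, funext hφ, wprod_tau hD w (allLettersOK_spec hD.lettersS w hw)]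
        exact Nat.eq_of_beq_eq_true h3)
      have hlp : P.label (P.par c) = P.label c := by
        have hpp := hP (P.par c) hp
        simp only [orbitOK, Bool.and_eq_true] at hpp
        have e1 := labels_inv hpp.1 w hw
        rw [Nat.eq_of_beq_eq_true h3] at e1
        exact e1.symm
      obtain ⟨h', hh', he'⟩ := ih ⟨P.par c, hp⟩ (Nat.eq_of_beq_eq_true h2) r (by rw [hr]; simp only [hlp])
      exact ⟨wprod g w * h', mul_mem hmem hh', by rw [map_mul, Equiv.Perm.mul_apply, he', hval]⟩
    · exfalso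
      have h4 : P.par c = c := by
        have := Nat.eq_of_beq_eq_true h3
        rwa [show w = [] from hw] at this
      have := Nat.eq_of_beq_eq_true h2
      rw [h4, hk] at this
      omega

variable {D : Table} (hD : Checked D) {G : Type*} [Group G] {H : Subgroup G} (g : ℕ → G)
  (φ : G →* Equiv.Perm (Fin D.n))
  (hφ : ∀ x, φ (g x) = tau hD x) (hg : ∀ x, g x * g x = 1)
  (hW : ∀ w ∈ D.C.W, wprod g w = 1)
  (hgen : Subgroup.closure (g '' {x | x < D.C.K}) = ⊤)
  (hH : H = Subgroup.closure (wprod g '' {w | w ∈ D.C.S}))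

/-- The data of the orbits of the point stabiliser used for primitivity. -/
structure Prim (D : Table) (P : Orbits) : Prop where
  orb : ∀ c < D.n, orbitOK D P c = true
  label_lt : ∀ c < D.n, P.label c < P.roots.length
  root_lt : ∀ l < P.roots.length, rootAt P.roots l < D.n ∧ P.label (rootAt P.roots l) = l
  root_zero : P.label 0 = 0
  blocks : ∀ T ∈ (Finset.range P.roots.length).powerset, 0 ∈ T → (∑ l ∈ T, countLabel P l D.n) ∣ D.n →
    (∑ l ∈ T, countLabel P l D.n) = 1 ∨ (∑ l ∈ T, countLabel P l D.n) = D.n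

include hD hφ hg hW hgen hH

theorem eq_or_top_of_le (P : Orbits) (hP : Prim D P) {K : Subgroup G} (hHK : H ≤ K) : K = H ∨ K = ⊤ := by
  classical
  obtain ⟨e, he0, he⟩ := exists_equiv hD g φ hφ hg hW hgen hH
  have hidx : H.index = D.n := index_eq hD g φ hφ hg hW hgen hH
  obtain ⟨e', he'⟩ := orbit_sizes hD g φ hφ hg hW hgen hH P hP.orb
  let A : Finset (Fin D.n) := Finset.univ.filter fun c => ∃ k ∈ K, φ k ⟨0, hD.pos⟩ = c
  have h0A : (⟨0, hD.pos⟩ : Fin D.n) ∈ A := Finset.mem_filter.mpr ⟨Finset.mem_univ _, 1, one_mem K, by rw [map_one]; rfl⟩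
  have hinvA : ∀ h ∈ H, ∀ c ∈ A, φ h c ∈ A := by
    intro h hh c hc
    obtain ⟨k, hk, hkc⟩ := (Finset.mem_filter.mp hc).2
    exact Finset.mem_filter.mpr ⟨Finset.mem_univ _, h * k, mul_mem (hHK hh) hk, by
      rw [map_mul, Equiv.Perm.mul_apply, hkc]⟩
  -- `A` is a union of classes
  have hroot : ∀ c : Fin D.n, ∃ h ∈ H, φ h ⟨rootAt P.roots (P.label c), (hP.root_lt _ (hP.label_lt _ c.2)).1⟩ = c := by
    intro c
    exact reach hD g φ hφ hg hW hgen hH P hP.orb _ c rfl _ rfl
  have hclass : ∀ c c' : Fin D.n, P.label c = P.label c' → c ∈ A → c' ∈ A := by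
    intro c c' hl hc
    obtain ⟨h, hh, hhc⟩ := hroot c
    obtain ⟨h', hh', hhc'⟩ := hroot c'
    have : φ (h' * h⁻¹) c = c' := by
      rw [map_mul, Equiv.Perm.mul_apply, map_inv, Equiv.Perm.inv_eq_iff_eq.mpr hhc.symm, ← hhc']
      congr 1
      exact Fin.ext (by simp only [hl])
    exact this ▸ hinvA _ (mul_mem hh' (inv_mem hh)) c hc
  let T := A.image fun c : Fin D.n => P.label c
  have hAT : A.card = ∑ l ∈ T, countLabel P l D.n := by
    rw [Finset.card_eq_sum_card_image (fun c : Fin D.n => P.label c) A]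
    refine Finset.sum_congr rfl fun l hl => ?_
    obtain ⟨c₀, hc₀, rfl⟩ := Finset.mem_image.mp hl
    rw [countLabel_eq]
    refine Finset.card_bij (fun c _ => (c : ℕ)) (fun c hc => ?_) (fun a _ b _ h => Fin.ext h) fun b hb => ?_
    · simp only [Finset.mem_filter, Finset.mem_range]
      exact ⟨c.2, (Finset.mem_filter.mp hc).2⟩
    · simp only [Finset.mem_filter, Finset.mem_range] at hb
      exact ⟨⟨b, hb.1⟩, Finset.mem_filter.mpr ⟨hclass c₀ _ hb.2.symm hc₀, hb.2⟩, rfl⟩
  have hT : T ∈ (Finset.range P.roots.length).powerset := Finset.mem_powerset.mpr fun l hl => by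
    obtain ⟨c, -, rfl⟩ := Finset.mem_image.mp hl
    exact Finset.mem_range.mpr (hP.label_lt _ c.2)
  have hT0 : 0 ∈ T := Finset.mem_image.mpr ⟨_, h0A, hP.root_zero⟩
  -- the card of `A` is the relative index
  have hcard : A.card = H.relIndex K := by
    rw [Subgroup.relIndex, Subgroup.index_eq_card, ← Nat.card_eq_finsetCard]
    symm
    refine Nat.card_eq_of_bijective (fun p => Quotient.liftOn' p (fun k : K =>
      (⟨φ k ⟨0, hD.pos⟩, Finset.mem_filter.mpr ⟨Finset.mem_univ _, k, k.2, rfl⟩⟩ : A)) fun a b hab => ?_) ⟨?_, ?_⟩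
    · rw [QuotientGroup.leftRel_apply, Subgroup.mem_subgroupOf] at hab
      refine Subtype.ext ?_
      show φ a _ = φ b _
      have := image_zero hD g φ hφ hg hW hgen hH _ hab
      rw [Subgroup.coe_mul, Subgroup.coe_inv, map_mul, Equiv.Perm.mul_apply, map_inv,
        Equiv.Perm.inv_eq_iff_eq] at this
      exact this.symm
    · intro p p'
      refine QuotientGroup.induction_on p (fun a => QuotientGroup.induction_on p' fun b h => ?_)
      have h' : φ (a : G) ⟨0, hD.pos⟩ = φ (b : G) ⟨0, hD.pos⟩ := congrArg Subtype.val h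
      rw [QuotientGroup.eq, Subgroup.mem_subgroupOf]
      have h1 : ∀ x : G, (QuotientGroup.mk x : G ⧸ H) = e (φ x ⟨0, hD.pos⟩) := fun x => by
        rw [← he, he0, MulAction.Quotient.smul_mk, smul_eq_mul, mul_one]
      rw [Subgroup.coe_mul, Subgroup.coe_inv, ← QuotientGroup.eq, h1, h1, h']
    · rintro ⟨c, hc⟩
      obtain ⟨k, hk, rfl⟩ := (Finset.mem_filter.mp hc).2
      exact ⟨QuotientGroup.mk ⟨k, hk⟩, rfl⟩
  have hdvd : H.relIndex K ∣ D.n := hidx ▸ Dvd.intro _ (Subgroup.relIndex_mul_index hHK)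
  rcases hP.blocks T hT hT0 (by rw [← hAT, hcard]; exact hdvd) with h | h
  · left
    rw [← hAT, hcard, Subgroup.relIndex_eq_one] at h
    exact le_antisymm h hHK
  · right
    rw [← hAT, hcard] at h
    have h2 := Subgroup.relIndex_mul_index hHK
    rw [h, hidx] at h2
    exact Subgroup.index_eq_one.mp (by have := hD.pos; nlinarith)

/-- Every nontrivial normal subgroup contains the elements of the `p`-part. -/
theorem mem_of_pow_eq_one (P : Orbits) (hP : Prim D P) (hinj : Function.Injective φ) {p : ℕ} (hp : p.Prime)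
    (hpH : ¬ p ∣ Nat.card H) {N : Subgroup G} [N.Normal] (hN : N ≠ ⊥) {x : G} (hx : x ^ p = 1) : x ∈ N := by
  obtain ⟨e, he0, he⟩ := exists_equiv hD g φ hφ hg hW hgen hH
  have hNH : ¬ N ≤ H := by
    intro hle
    apply hN
    rw [Subgroup.eq_bot_iff_forall]
    intro n hn
    apply hinj
    rw [map_one]
    refine Equiv.ext fun c => ?_
    show φ n c = c
    obtain ⟨a, ha⟩ := QuotientGroup.mk_surjective (e c)
    have hm : a⁻¹ * n * a ∈ H := hle (by simpa using (inferInstance : N.Normal).conj_mem n hn a⁻¹)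
    apply e.injective
    rw [← he, ← ha, MulAction.Quotient.smul_mk, smul_eq_mul, QuotientGroup.eq]
    have : (n * a)⁻¹ * a = (a⁻¹ * n * a)⁻¹ := by group
    rw [this]
    exact inv_mem hm
  have htop : N ⊔ H = ⊤ := by
    rcases eq_or_top_of_le hD g φ hφ hg hW hgen hH P hP (le_sup_right : H ≤ N ⊔ H) with h | h
    · exact absurd (le_sup_left.trans h.le) hNH
    · exact h
  have hdiv : N.index ∣ Nat.card H := by
    have h1 : N.index = N.relIndex H := by
      rw [← Subgroup.relIndex_top_right, ← htop, Subgroup.relIndex_sup_left]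
    rw [h1]
    exact Subgroup.relIndex_dvd_card N H
  rw [← QuotientGroup.eq_one_iff]
  have h1 : orderOf (x : G ⧸ N) ∣ p := orderOf_dvd_of_pow_eq_one (by rw [← QuotientGroup.mk_pow, hx]; rfl)
  have h2 : orderOf (x : G ⧸ N) ∣ N.index := Subgroup.index_eq_card N ▸ orderOf_dvd_natCard _
  rcases (Nat.dvd_prime hp).mp h1 with h | h
  · exact orderOf_eq_one_iff.mp h
  · exact absurd ((h ▸ h2).trans hdiv) hpH

/-- Simplicity. -/
theorem isSimpleGroup (P : Orbits) (hP : Prim D P) (hinj : Function.Injective φ) {p : ℕ} (hp : p.Prime)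
    (hpH : ¬ p ∣ Nat.card H) (hn : 1 < D.n)
    (hwit : ∀ x < D.C.K, ∃ u v : G, u ^ p = 1 ∧ v ^ p = 1 ∧ u * v = g x) : IsSimpleGroup G := by
  obtain ⟨e, -, -⟩ := exists_equiv hD g φ hφ hg hW hgen hH
  haveI : Nontrivial G := by
    haveI : Nontrivial (G ⧸ H) := by
      haveI : Nontrivial (Fin D.n) := Fin.nontrivial_iff_two_le.mpr hn
      exact e.symm.nontrivial
    exact (QuotientGroup.mk_surjective (s := H)).nontrivial
  refine ⟨fun N hN => ?_⟩
  rcases eq_or_ne N ⊥ with h | h
  · exact Or.inl h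
  right
  rw [eq_top_iff, ← hgen, Subgroup.closure_le]
  rintro _ ⟨x, hx, rfl⟩
  obtain ⟨u, v, hu, hv, huv⟩ := hwit x hx
  haveI := hN
  rw [← huv]
  exact mul_mem (mem_of_pow_eq_one hD g φ hφ hg hW hgen hH P hP hinj hp hpH h hu)
    (mem_of_pow_eq_one hD g φ hφ hg hW hgen hH P hP hinj hp hpH h hv)

end Cfsg.Agent.CosetCert
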