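import Cfsg.Agent.Lib.CosetCert.Order
import Cfsg.Agent.Lib.CosetCert.Lower
import Cfsg.Agent.Lib.CosetCert.Simple
import Cfsg.Agent.Lib.CosetCert.Cox

/-!
# Order and simplicity
-/

set_option autoImplicit false
set_option linter.all false

noncomputable section

namespace Cfsg.Agent.CosetCert

variable {G : Type*} [Group G]

/-- The subgroup generated by some of the generators. -/
def subg (g : ℕ → G) (l : List ℕ) : Subgroup G := Subgroup.closure (g '' {x | x ∈ l})

theorem subg_nil (g : ℕ → G) : subg g [] = ⊥ := by simp [subg]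

theorem bdd_subg_nil (g : ℕ → G) : Bdd (subg g []) 1 := (subg_nil g).symm ▸ bdd_bot

/-- The global names of the letters of a local word. -/
def mapWord (top : List ℕ) : List ℕ → List ℕ
  | [] => []
  | y :: w => nthNat top y :: mapWord top w

def memList (w : List ℕ) : List (List ℕ) → Bool
  | [] => false
  | v :: l => beqList v w || memList w l

def wordsIn (top : List ℕ) (V : List (List ℕ)) : List (List ℕ) → Bool
  | [] => true
  | w :: l => memList (mapWord top w) V && wordsIn top V l

theorem memList_spec {w : List ℕ} : ∀ {l : List (List ℕ)}, memList w l = true → w ∈ l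
  | [], h => by simp [memList] at h
  | v :: l, h => by
    simp only [memList, Bool.or_eq_true] at h
    rcases h with h | h
    · exact beqList_iff h ▸ List.mem_cons_self
    · exact List.mem_cons_of_mem _ (memList_spec h)

theorem wordsIn_spec {top : List ℕ} {V : List (List ℕ)} : ∀ {l : List (List ℕ)}, wordsIn top V l = true →
    ∀ w ∈ l, mapWord top w ∈ V
  | [], _, w, hw => by simp at hw
  | v :: l, h, w, hw => by
    simp only [wordsIn, Bool.and_eq_true] at h
    rcases List.mem_cons.mp hw with rfl | hw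
    · exact memList_spec h.1
    · exact wordsIn_spec h.2 w hw

theorem wprod_mapWord (g : ℕ → G) (top : List ℕ) :
    ∀ w : List ℕ, wprod g (mapWord top w) = wprod (fun x => g (nthNat top x)) w
  | [] => rfl
  | y :: w => by rw [mapWord, wprod, wprod, wprod_mapWord g top w]

theorem nthNat_mem : ∀ {l : List ℕ} {i : ℕ}, i < l.length → nthNat l i ∈ l
  | [], i, h => by simp at h
  | a :: l, 0, _ => List.mem_cons_self
  | a :: l, i + 1, h => List.mem_cons_of_mem _ (nthNat_mem (by simpa using h))

theorem exists_nthNat : ∀ {l : List ℕ} {y : ℕ}, y ∈ l → ∃ i < l.length, nthNat l i = y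
  | [], y, h => by simp at h
  | a :: l, y, h => by
    rcases List.mem_cons.mp h with rfl | h
    · exact ⟨0, by simp, rfl⟩
    · obtain ⟨i, hi, e⟩ := exists_nthNat h
      exact ⟨i + 1, by simpa using hi, e⟩

/-- One step of a chain of subgroups generated by generators. -/
theorem bdd_subg {D : Table} (hD : Closed D) (g : ℕ → G) (hg : ∀ x, g x * g x = 1) (V : List (List ℕ))
    (hV : ∀ w ∈ V, wprod g w = 1) (top J : List ℕ) (hK : top.length = D.C.K)
    (hW : wordsIn top V D.C.W = true) (hlW : allLettersOK D.C.K D.C.W = true)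
    (hlS : allLettersOK D.C.K D.C.S = true) (hS : D.C.S = J.map fun j => [j]) {B : ℕ}
    (hB : Bdd (subg g (J.map (nthNat top))) B) : Bdd (subg g top) (D.n * B) := by
  refine Bdd.step hD (fun x => g (nthNat top x)) (fun x => hg _) (fun w hw => ?_) hlS ?_ ?_ hlW hB
  · rw [← wprod_mapWord]
    exact hV _ (wordsIn_spec hW w hw)
  · unfold subg
    congr 1
    ext p
    constructor
    · rintro ⟨y, hy, rfl⟩
      obtain ⟨i, hi, rfl⟩ := exists_nthNat hy
      exact ⟨i, hK ▸ hi, rfl⟩
    · rintro ⟨i, hi, rfl⟩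
      exact ⟨_, nthNat_mem (hK.symm ▸ hi), rfl⟩
  · unfold subg
    congr 1
    rw [hS]
    ext p
    constructor
    · rintro ⟨y, hy, rfl⟩
      obtain ⟨j, hj, rfl⟩ := List.mem_map.mp hy
      exact ⟨[j], List.mem_map.mpr ⟨j, hj, rfl⟩, by simp [wprod]⟩
    · rintro ⟨w, hw, rfl⟩
      obtain ⟨j, hj, rfl⟩ := List.mem_map.mp hw
      exact ⟨_, List.mem_map.mpr ⟨j, hj, rfl⟩, by simp [wprod]⟩

/-- The whole group. -/
theorem Bdd.top_of_gen {g : ℕ → G} {K : ℕ} (hgen : Subgroup.closure (g '' {x | x < K}) = ⊤) {l : List ℕ} {B : ℕ}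
    (hl : ∀ x < K, x ∈ l) (h : Bdd (subg g l) B) : Bdd (⊤ : Subgroup G) B := by
  refine h.congr (top_le_iff.mp ?_)
  rw [← hgen]
  exact Subgroup.closure_mono (Set.image_mono fun x hx => hl x hx)

/-- `w` repeated fixes every row. -/
def powFixes (D : Table) (w : List ℕ) : ℕ → Bool
  | 0 => true
  | c + 1 => Nat.beq (D.run w c) c && powFixes D w c

theorem powFixes_spec {D : Table} {w : List ℕ} : ∀ n, powFixes D w n = true → ∀ c < n, D.run w c = c
  | 0, _, c, hc => absurd hc (by omega)
  | n + 1, h, c, hc => by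
    simp only [powFixes, Bool.and_eq_true] at h
    rcases Nat.lt_succ_iff_lt_or_eq.mp hc with e | rfl
    · exact powFixes_spec n h.2 c e
    · exact Nat.eq_of_beq_eq_true h.1

/-- `u` has `p`-th power one and so has `u⁻¹ x`. -/
def witOK (D : Table) (p x : ℕ) (u : List ℕ) : Bool :=
  lettersOK D.C.K u && powFixes D (List.replicate p u).flatten D.n &&
    powFixes D (List.replicate p (x :: u.reverse)).flatten D.n

def witsOK (D : Table) (p : ℕ) : ℕ → List (List ℕ) → Bool
  | x, [] => Nat.beq x D.C.K
  | x, u :: l => witOK D p x u && witsOK D p (Nat.succ x) l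

theorem witsOK_spec {D : Table} {p : ℕ} : ∀ (l : List (List ℕ)) (a : ℕ), witsOK D p a l = true →
    ∀ x, a ≤ x → x < D.C.K → ∃ u, witOK D p x u = true
  | [], a, h, x, h1, h2 => by
    simp only [witsOK] at h
    have := Nat.eq_of_beq_eq_true h
    omega
  | u :: l, a, h, x, h1, h2 => by
    simp only [witsOK, Bool.and_eq_true] at h
    rcases Nat.eq_or_lt_of_le h1 with e | e
    · exact ⟨u, e ▸ h.1⟩
    · exact witsOK_spec l (Nat.succ a) h.2 x e h2

theorem wprod_append' (g : ℕ → G) : ∀ u v : List ℕ, wprod g (u ++ v) = wprod g v * wprod g u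
  | [], v => by rw [List.nil_append]; exact (mul_one _).symm
  | y :: u, v => by rw [List.cons_append, wprod, wprod, wprod_append' g u v, mul_assoc]

theorem wprod_pow (g : ℕ → G) (u : List ℕ) : ∀ p : ℕ, wprod g (List.replicate p u).flatten = wprod g u ^ p
  | 0 => by rw [pow_zero]; rfl
  | p + 1 => by rw [List.replicate_succ, List.flatten_cons, wprod_append', wprod_pow g u p, pow_succ]

theorem wprod_reverse (g : ℕ → G) (hg : ∀ x, g x * g x = 1) :
    ∀ u : List ℕ, wprod g u.reverse = (wprod g u)⁻¹
  | [] => by simp [wprod]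
  | y :: u => by
    rw [List.reverse_cons, wprod_append', wprod_reverse g hg u]
    simp only [wprod, _root_.mul_inv_rev, one_mul, inv_eq_of_mul_eq_one_right (hg y)]

/-- The data of primitivity in a form which can be evaluated. -/
theorem Prim.mk' {D : Table} {P : Orbits} (orb : ∀ c < D.n, orbitOK D P c = true) (cnt : List ℕ)
    (hlab : ∀ c < D.n, P.label c < P.roots.length)
    (hroot : ∀ l < P.roots.length, rootAt P.roots l < D.n ∧ P.label (rootAt P.roots l) = l)
    (h0 : P.label 0 = 0) (hcnt : ∀ l < P.roots.length, countLabel P l D.n = rootAt cnt l)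
    (hblocks : ∀ T ∈ (Finset.range P.roots.length).powerset, 0 ∈ T → (∑ l ∈ T, rootAt cnt l) ∣ D.n →
      (∑ l ∈ T, rootAt cnt l) = 1 ∨ (∑ l ∈ T, rootAt cnt l) = D.n) : Prim D P where
  orb := orb
  label_lt := hlab
  root_lt := hroot
  root_zero := h0
  blocks T hT h0T := by
    rw [Finset.sum_congr rfl fun l hl => hcnt l (Finset.mem_range.mp (Finset.mem_powerset.mp hT hl))]
    exact hblocks T hT h0T

def memNat (x : ℕ) : List ℕ → Bool
  | [] => false
  | y :: l => Nat.beq y x || memNat x l

theorem memNat_spec {x : ℕ} : ∀ {l : List ℕ}, memNat x l = true → x ∈ l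
  | [], h => by simp [memNat] at h
  | y :: l, h => by
    simp only [memNat, Bool.or_eq_true] at h
    rcases h with h | h
    · exact Nat.eq_of_beq_eq_true h ▸ List.mem_cons_self
    · exact List.mem_cons_of_mem _ (memNat_spec h)

/-- The letters listed with witnesses and those joined to them by a relator `(y x)^3`. -/
def coverOK (D : Table) : List ℕ → List (ℕ × ℕ) → Bool
  | done, [] => (List.range D.C.K).all fun x => memNat x done
  | done, e :: l => memNat e.2 done && memList [e.2, e.1, e.2, e.1, e.2, e.1] D.C.W && coverOK D (e.1 :: done) l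

def rootsOK (D : Table) (p : ℕ) : List (ℕ × List ℕ) → Bool
  | [] => true
  | e :: l => Nat.blt e.1 D.C.K && witOK D p e.1 e.2 && rootsOK D p l

theorem rootsOK_spec {D : Table} {p : ℕ} : ∀ {l : List (ℕ × List ℕ)}, rootsOK D p l = true →
    ∀ x ∈ l.map Prod.fst, x < D.C.K ∧ ∃ u, witOK D p x u = true
  | [], _, x, hx => by simp at hx
  | e :: l, h, x, hx => by
    simp only [rootsOK, Bool.and_eq_true] at h
    rcases List.mem_cons.mp hx with rfl | hx
    · exact ⟨by simpa [Nat.blt] using h.1.1, e.2, h.1.2⟩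
    · exact rootsOK_spec h.2 x hx

/-- A property closed along the joins holds for every letter. -/
theorem coverOK_spec {D : Table} {Q : ℕ → Prop}
    (step : ∀ x y, [y, x, y, x, y, x] ∈ D.C.W → Q y → Q x) :
    ∀ (l : List (ℕ × ℕ)) (done : List ℕ), (∀ x ∈ done, Q x) → coverOK D done l = true → ∀ x < D.C.K, Q x
  | [], done, hd, h, x, hx => by
    simp only [coverOK, List.all_eq_true, List.mem_range] at h
    exact hd x (memNat_spec (h x hx))
  | e :: l, done, hd, h, x, hx => by
    simp only [coverOK, Bool.and_eq_true] at h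
    refine coverOK_spec step l (e.1 :: done) (fun z hz => ?_) h.2 x hx
    rcases List.mem_cons.mp hz with rfl | hz
    · exact step _ _ (memList_spec h.1.2) (hd _ (memNat_spec h.1.1))
    · exact hd z hz

/-- Order and simplicity. -/
theorem order_simple {D : Table} (hD : Checked D) {P : Orbits} (hP : Prim D P) (g : ℕ → G)
    (φ : G →* Equiv.Perm (Fin D.n)) (hφ : ∀ x, φ (g x) = tau hD x) (hg : ∀ x, g x * g x = 1)
    (hW : ∀ w ∈ D.C.W, wprod g w = 1) (hgen : Subgroup.closure (g '' {x | x < D.C.K}) = ⊤)
    {H : Subgroup G} (hH : H = Subgroup.closure (wprod g '' {w | w ∈ D.C.S}))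
    {B : ℕ} (hB : Bdd (⊤ : Subgroup G) B) (Ls : List Level) (hlen : D.P.length = D.C.K)
    (hLs : levelsOK D.n D.P Ls = true) (hprod : prodM Ls = B) {p : ℕ} (hp : p.Prime) (hn : 1 < D.n)
    (hpB : ¬ p ∣ B / D.n) (roots : List (ℕ × List ℕ)) (cover : List (ℕ × ℕ)) (hroots : rootsOK D p roots = true)
    (hcover : coverOK D (roots.map Prod.fst) cover = true) :
    IsSimpleGroup G ∧ Nat.card G = B ∧ Function.Injective φ := by
  haveI : Finite G := @Finite.of_equiv _ _ hB.1 Subgroup.topEquiv.toEquiv
  have hle : Nat.card G ≤ B := by rw [← Subgroup.card_top]; exact hB.2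
  have hlow : B ≤ Nat.card φ.range := by
    rw [← hprod]
    refine prodM_le Ls D.P φ.range (fun y hy => ⟨tau hD y, ⟨g y, hφ y⟩, fun c => ?_⟩) hLs
    rw [tau_apply hD (hlen ▸ hy)]
    rfl
  have hrange : Nat.card φ.range ≤ Nat.card G := Nat.card_le_card_of_surjective _ φ.rangeRestrict_surjective
  have hcard : Nat.card G = B := le_antisymm hle (hlow.trans hrange)
  have hinj : Function.Injective φ := by
    have hb : Function.Bijective φ.rangeRestrict := φ.rangeRestrict_surjective.bijective_of_nat_card_le (by omega)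
    intro a b hab
    exact hb.1 (Subtype.ext hab)
  refine ⟨isSimpleGroup hD g φ hφ hg hW hgen hH P hP hinj hp ?_ hn fun x hx => ?_, hcard, hinj⟩
  · have hidx := index_eq hD g φ hφ hg hW hgen hH
    have hmul := H.card_mul_index
    rw [hidx, hcard] at hmul
    rwa [← hmul, Nat.mul_div_cancel _ (by omega)] at hpB
  · revert x
    refine coverOK_spec (Q := fun x => ∃ u v : G, u ^ p = 1 ∧ v ^ p = 1 ∧ u * v = g x) ?_ cover
      (roots.map Prod.fst) (fun x hx' => ?_) hcover
    · intro x y hxy hy
      obtain ⟨u, v, hu, hv, huv⟩ := hy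
      have hrel := hW _ hxy
      simp only [wprod, one_mul] at hrel
      refine ⟨MulAut.conj (g y * g x) u, MulAut.conj (g y * g x) v, by rw [← map_pow, hu, map_one],
        by rw [← map_pow, hv, map_one], ?_⟩
      have h' := inv_eq_of_mul_eq_one_right
        (show g x * (g y * g x * g y * g x * g y) = 1 by simpa only [mul_assoc] using hrel)
      rw [inv_eq_of_mul_eq_one_right (hg x)] at h'
      rw [← map_mul, huv, MulAut.conj_apply, _root_.mul_inv_rev, inv_eq_of_mul_eq_one_right (hg y),
        inv_eq_of_mul_eq_one_right (hg x)]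
      simpa only [mul_assoc] using h'.symm
    obtain ⟨hx, u, hu⟩ := rootsOK_spec hroots x hx'
    simp only [witOK, Bool.and_eq_true] at hu
    obtain ⟨⟨h1, h2⟩, h3⟩ := hu
    have hone : ∀ w : List ℕ, (∀ y ∈ w, y < D.C.K) → powFixes D w D.n = true → wprod g w = 1 := by
      intro w hw hfix
      apply hinj
      rw [map_wprod, funext hφ, map_one]
      exact Equiv.ext fun c => Fin.ext (by
        rw [wprod_tau hD w hw]; exact powFixes_spec D.n hfix c c.2)
    have hlu := lettersOK_spec h1
    refine ⟨wprod g u, wprod g (x :: u.reverse), ?_, ?_, ?_⟩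
    · rw [← wprod_pow]
      refine hone _ (fun y hy => ?_) h2
      obtain ⟨v, hv, hyv⟩ := List.mem_flatten.mp hy
      exact hlu y (List.eq_of_mem_replicate hv ▸ hyv)
    · rw [← wprod_pow]
      refine hone _ (fun y hy => ?_) h3
      obtain ⟨v, hv, hyv⟩ := List.mem_flatten.mp hy
      rw [List.eq_of_mem_replicate hv] at hyv
      rcases List.mem_cons.mp hyv with rfl | hyv
      · exact hx
      · exact hlu y (List.mem_reverse.mp hyv)
    · rw [wprod, wprod_reverse g hg, mul_inv_cancel_left]

end Cfsg.Agent.CosetCert
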