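import Mathlib

/-!
# Certificates for coset enumerations

A certificate is a list of facts `x • q u = q v` between named cosets, each following from the earlier ones by a
relator, together with the final coset table.  Everything the kernel evaluates is `Nat` and `Bool`.
-/

set_option autoImplicit false
set_option linter.all false

noncomputable section

namespace Cfsg.Agent.CosetCert

/-- A binary tree of numbers. -/
inductive Tree where
  | leaf : ℕ → Tree
  | node : ℕ → Tree → Tree → Tree

/-- Lookup. -/
def Tree.get (t : Tree) : ℕ → ℕ :=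
  Tree.rec (motive := fun _ => ℕ → ℕ) (fun v _ => v)
    (fun k _ _ a b i => Bool.rec (motive := fun _ => ℕ) (a i) (b (Nat.sub i k)) (Nat.ble k i)) t

def fU (s : ℕ) : ℕ := Nat.land s 1048575
def fV (s : ℕ) : ℕ := Nat.land (Nat.shiftRight s 20) 1048575
def fX (s : ℕ) : ℕ := Nat.land (Nat.shiftRight s 40) 15
def fKind (s : ℕ) : ℕ := Nat.land (Nat.shiftRight s 44) 15
def fR (s : ℕ) : ℕ := Nat.land (Nat.shiftRight s 48) 255
def fSplit (s : ℕ) : ℕ := Nat.land (Nat.shiftRight s 56) 255
def fLen (s : ℕ) : ℕ := Nat.land (Nat.shiftRight s 64) 255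
def fM (s : ℕ) : ℕ := Nat.land (Nat.shiftRight s 72) 1048575
def fBody (s : ℕ) : ℕ := Nat.shiftRight s 92

def consLetter (K x : ℕ) (w : List ℕ) : List ℕ := cond (Nat.beq x K) w (x :: w)

/-- Follow a packed path of earlier facts. -/
def walk (K : ℕ) (t : Tree) (bound : ℕ) : ℕ → ℕ → ℕ → Option (ℕ × List ℕ × ℕ)
  | 0, body, cur => some (cur, [], body)
  | n + 1, body, cur =>
    match Nat.blt (Nat.land body 1048575) bound with
    | false => none
    | true =>
      let f := t.get (Nat.land body 1048575)
      match Nat.beq (fU f) cur with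
      | true => (walk K t bound n (Nat.shiftRight body 20) (fV f)).map
          fun p => (p.1, consLetter K (fX f) p.2.1, p.2.2)
      | false => match Nat.beq (fV f) cur with
        | true => (walk K t bound n (Nat.shiftRight body 20) (fU f)).map
            fun p => (p.1, consLetter K (fX f) p.2.1, p.2.2)
        | false => none

noncomputable def beqList (l : List ℕ) : List ℕ → Bool :=
  List.rec (motive := fun _ => List ℕ → Bool) (fun m => List.rec (motive := fun _ => Bool) true (fun _ _ _ => false) m)
    (fun a _ ih m => List.rec (motive := fun _ => Bool) false (fun b m' _ => Nat.beq a b && ih m') m) l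

theorem beqList_nil : beqList [] [] = true := rfl

theorem beqList_nil_cons (b : ℕ) (m : List ℕ) : beqList [] (b :: m) = false := rfl

theorem beqList_cons_nil (a : ℕ) (l : List ℕ) : beqList (a :: l) [] = false := rfl

theorem beqList_cons (a b : ℕ) (l m : List ℕ) : beqList (a :: l) (b :: m) = (Nat.beq a b && beqList l m) := rfl

noncomputable def getWord (l : List (List ℕ)) : ℕ → List ℕ :=
  List.rec (motive := fun _ => ℕ → List ℕ) (fun _ => [])
    (fun w _ ih n => Bool.rec (motive := fun _ => List ℕ) (ih (Nat.sub n 1)) w (Nat.beq n 0)) l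

/-- The data. -/
structure Cert where
  K : ℕ
  W : List (List ℕ)
  S : List (List ℕ)
  F : Tree
  N : ℕ

def nextM (s : ℕ) : ℕ := cond (Nat.beq (fKind s) 0) (Nat.succ (fM s)) (fM s)

/-- The justification of fact `i`. -/
def ruleOK (C : Cert) (i s : ℕ) : Bool :=
  match fKind s with
  | 0 => Nat.blt (fU s) (fM s) && Nat.beq (fV s) (fM s) && Nat.blt (fX s) C.K
  | k + 1 =>
    Nat.blt (fU s) (fM s) && Nat.blt (fV s) (fM s) && Nat.ble (fX s) C.K &&
    match walk C.K C.F i (fSplit s) (fBody s) (fU s) with
    | none => false
    | some (c, w1, body) =>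
      match walk C.K C.F i (Nat.sub (fLen s) (fSplit s)) body c with
      | none => false
      | some (e, w2, _) => Nat.beq e (fV s) &&
        match k with
        | 0 => beqList (getWord C.W (fR s)) (w2 ++ consLetter C.K (fX s) w1)
        | 1 => Nat.beq c 0 && beqList (getWord C.S (fR s)) (w2 ++ consLetter C.K (fX s) w1)
        | 2 => beqList (w1 ++ w2) (consLetter C.K (fX s) [])
        | _ => false

/-- The check of fact `i`. -/
def stepOK (C : Cert) (i : ℕ) : Bool :=
  ruleOK C i (C.F.get i) &&
    (Nat.beq (Nat.succ i) C.N || Nat.beq (fM (C.F.get (Nat.succ i))) (nextM (C.F.get i)))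

/-- The check of the facts in `[a, a+n)`. -/
def rangeOK (C : Cert) : ℕ → ℕ → Bool
  | _, 0 => true
  | a, n + 1 => stepOK C a && rangeOK C (Nat.succ a) n

theorem rangeOK_spec (C : Cert) : ∀ n a, rangeOK C a n = true → ∀ i, a ≤ i → i < a + n → stepOK C i = true := by
  intro n
  induction n with
  | zero => intro a _ i h1 h2; omega
  | succ n ih =>
    intro a h i h1 h2
    simp only [rangeOK, Bool.and_eq_true] at h
    rcases Nat.eq_or_lt_of_le h1 with e | e
    · exact e ▸ h.1
    · exact ih (Nat.succ a) h.2 i (by omega) (by omega)

theorem beqList_iff : ∀ {l m : List ℕ}, beqList l m = true → l = m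
  | [], [], _ => rfl
  | [], _ :: _, h => by simp [beqList_nil_cons] at h
  | _ :: _, [], h => by simp [beqList_cons_nil] at h
  | a :: l, b :: m, h => by
    simp only [beqList_cons, Bool.and_eq_true] at h
    rw [Nat.eq_of_beq_eq_true h.1, beqList_iff h.2]

theorem getWord_cons_zero (w : List ℕ) (l : List (List ℕ)) : getWord (w :: l) 0 = w := rfl

theorem getWord_cons_succ (w : List ℕ) (l : List (List ℕ)) (n : ℕ) : getWord (w :: l) (n + 1) = getWord l n := rfl

theorem getWord_mem {l : List (List ℕ)} {n : ℕ} : getWord l n ∈ l ∨ getWord l n = [] := by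
  induction l generalizing n with
  | nil => exact Or.inr rfl
  | cons w l ih =>
    cases n with
    | zero => exact Or.inl (by simp [getWord_cons_zero])
    | succ n => rcases ih (n := n) with h | h <;> simp [getWord_cons_succ, h]

section Sound

variable {G Q : Type*} [Group G] [MulAction G Q] (g : ℕ → G) (C : Cert) (q₀ : Q)

/-- The action of a word, first letter first. -/
def act : List ℕ → Q → Q
  | [], q => q
  | y :: w, q => act w (g y • q)

theorem act_append : ∀ (u v : List ℕ) (q : Q), act g (u ++ v) q = act g v (act g u q)
  | [], _, _ => rfl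
  | _ :: u, v, q => act_append u v _

theorem act_injective : ∀ w : List ℕ, Function.Injective (act g (Q := Q) w)
  | [] => fun _ _ h => h
  | y :: w => fun _ _ h => MulAction.injective (g y) (act_injective w h)

/-- The hypotheses on the generators. -/
structure Sat : Prop where
  invol : ∀ x, g x * g x = 1
  rel : ∀ w ∈ C.W, ∀ q : Q, act g w q = q
  sub : ∀ w ∈ C.S, act g w q₀ = q₀

variable (q : ℕ → Q)

/-- The meaning of a fact. -/
def Valid (s : ℕ) : Prop := act g (consLetter C.K (fX s) []) (q (fU s)) = q (fV s)

theorem act_consLetter (x : ℕ) (w : List ℕ) (p : Q) :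
    act g (consLetter C.K x w) p = act g w (act g (consLetter C.K x []) p) := by
  cases h : Nat.beq x C.K <;> simp [consLetter, h, act]

theorem act_letter_symm (hs : ∀ x, g x * g x = 1) (x : ℕ) (a b : Q)
    (h : act g (consLetter C.K x []) a = b) : act g (consLetter C.K x []) b = a := by
  subst h
  cases h : Nat.beq x C.K <;> simp [consLetter, h, act, ← mul_smul, hs]

theorem walk_sound (hs : ∀ x, g x * g x = 1) {i : ℕ} (hv : ∀ j < i, Valid g C q (C.F.get j)) :
    ∀ (n body cur : ℕ) {c : ℕ} {w : List ℕ} {b : ℕ}, walk C.K C.F i n body cur = some (c, w, b) →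
      act g w (q cur) = q c := by
  intro n
  induction n with
  | zero =>
    intro body cur c w b h
    simp only [walk, Option.some.injEq, Prod.mk.injEq] at h
    obtain ⟨rfl, rfl, -⟩ := h
    rfl
  | succ n ih =>
    intro body cur c w b h
    simp only [walk] at h
    split at h
    · exact absurd h (by simp)
    · next hlt =>
      have hj : Nat.land body 1048575 < i := by
        simpa [Nat.blt] using hlt
      have hvj := hv _ hj
      split at h
      · next hu =>
        rw [Option.map_eq_some_iff] at h
        obtain ⟨⟨c', w', b'⟩, hw, he⟩ := h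
        simp only [Prod.mk.injEq] at he
        obtain ⟨rfl, rfl, -⟩ := he
        rw [act_consLetter, ← Nat.eq_of_beq_eq_true hu, hvj]
        exact ih _ _ hw
      · split at h
        · next hu =>
          rw [Option.map_eq_some_iff] at h
          obtain ⟨⟨c', w', b'⟩, hw, he⟩ := h
          simp only [Prod.mk.injEq] at he
          obtain ⟨rfl, rfl, -⟩ := he
          rw [act_consLetter, ← Nat.eq_of_beq_eq_true hu, act_letter_symm g C hs _ _ _ hvj]
          exact ih _ _ hw
        · exact absurd h (by simp)

/-- The names of the cosets. -/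
theorem exists_naming (hC : Sat g C q₀) (h0 : fM (C.F.get 0) = 1)
    (hall : ∀ i < C.N, stepOK C i = true) :
    ∃ q : ℕ → Q, q 0 = q₀ ∧ ∀ j < C.N, Valid g C q (C.F.get j) := by
  suffices key : ∀ i, i ≤ C.N → ∃ (q : ℕ → Q) (M : ℕ), q 0 = q₀ ∧ 0 < M ∧ (i < C.N → fM (C.F.get i) = M) ∧
      ∀ j < i, Valid g C q (C.F.get j) ∧ fU (C.F.get j) < M ∧ fV (C.F.get j) < M by
    obtain ⟨q, _, hq0, _, _, hq⟩ := key C.N le_rfl
    exact ⟨q, hq0, fun j hj => (hq j hj).1⟩
  intro i
  induction i with
  | zero => exact fun _ => ⟨fun _ => q₀, 1, rfl, one_pos, fun _ => h0, fun j hj => absurd hj (by omega)⟩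
  | succ i ih =>
    intro hi
    obtain ⟨q, M, hq0, hMpos, hM, hq⟩ := ih (by omega)
    have hM' := hM (by omega)
    have hok := hall i (by omega)
    simp only [stepOK, Bool.and_eq_true, Bool.or_eq_true] at hok
    obtain ⟨hrule, hnext⟩ := hok
    have hnext' : i + 1 < C.N → fM (C.F.get (i + 1)) = nextM (C.F.get i) := fun h => by
      rcases hnext with e | e
      · have := Nat.eq_of_beq_eq_true e
        omega
      · exact Nat.eq_of_beq_eq_true e
    generalize hs : C.F.get i = s at hrule hnext' hM'
    unfold ruleOK at hrule
    cases hk : fKind s with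
    | zero =>
      rw [hk] at hrule
      simp only [Bool.and_eq_true] at hrule
      obtain ⟨⟨hu, hv⟩, -⟩ := hrule
      have hu' : fU s < M := hM' ▸ (by simpa [Nat.blt] using hu)
      have hv' : fV s = M := (Nat.eq_of_beq_eq_true hv).trans hM'
      refine ⟨Function.update q M (act g (consLetter C.K (fX s) []) (q (fU s))), M + 1, ?_, by omega, ?_, ?_⟩
      · rw [Function.update_of_ne (by omega)]; exact hq0
      · intro h
        rw [hnext' h, nextM, hk, hM']
        rfl
      · intro j hj
        rcases Nat.lt_succ_iff_lt_or_eq.mp hj with hj | rfl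
        · obtain ⟨h1, h2, h3⟩ := hq j hj
          refine ⟨?_, by omega, by omega⟩
          unfold Valid at h1 ⊢
          rw [Function.update_of_ne (by omega), Function.update_of_ne (by omega)]
          exact h1
        · rw [hs]
          refine ⟨?_, by omega, by omega⟩
          unfold Valid
          rw [hv', Function.update_self, Function.update_of_ne (by omega)]
    | succ k =>
      rw [hk] at hrule
      simp only [Bool.and_eq_true] at hrule
      obtain ⟨⟨⟨hu, hv⟩, -⟩, hrest⟩ := hrule
      have hu' : fU s < M := hM' ▸ (by simpa [Nat.blt] using hu)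
      have hv' : fV s < M := hM' ▸ (by simpa [Nat.blt] using hv)
      refine ⟨q, M, hq0, hMpos, ?_, ?_⟩
      · intro h
        rw [hnext' h, nextM, hk, hM']
        rfl
      intro j hj
      rcases Nat.lt_succ_iff_lt_or_eq.mp hj with hj | rfl
      · exact hq j hj
      rw [hs]
      refine ⟨?_, hu', hv'⟩
      have hval : ∀ l < j, Valid g C q (C.F.get l) := fun l hl => (hq l hl).1
      split at hrest
      · exact absurd hrest (by simp)
      · next c w1 body hw1 =>
        split at hrest
        · exact absurd hrest (by simp)
        · next e w2 b hw2 =>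
          simp only [Bool.and_eq_true] at hrest
          obtain ⟨he, hrest⟩ := hrest
          have e1 := walk_sound g C q hC.invol hval _ _ _ hw1
          have e2 := walk_sound g C q hC.invol hval _ _ _ hw2
          rw [Nat.eq_of_beq_eq_true he] at e2
          have hloop : ∀ W : List ℕ, W = w2 ++ consLetter C.K (fX s) w1 → act g W (q c) = q c →
              Valid g C q s := by
            intro W hW hfix
            rw [hW, act_append, e2, act_consLetter, ← e1] at hfix
            exact act_letter_symm g C hC.invol _ _ _ (act_injective g w1 hfix)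
          split at hrest
          · refine hloop _ (beqList_iff hrest) ?_
            rcases getWord_mem (l := C.W) (n := fR s) with h | h
            · exact hC.rel _ h _
            · rw [h]; rfl
          · simp only [Bool.and_eq_true] at hrest
            obtain ⟨hc, hrest⟩ := hrest
            refine hloop _ (beqList_iff hrest) ?_
            rw [Nat.eq_of_beq_eq_true hc, hq0]
            rcases getWord_mem (l := C.S) (n := fR s) with h | h
            · exact hC.sub _ h
            · rw [h]; rfl
          · unfold Valid
            rw [← beqList_iff hrest, act_append, e1, e2]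
          · exact absurd hrest (by simp)

end Sound

end Cfsg.Agent.CosetCert
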