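import Cfsg.Agent.Lib.CosetCert.Table

/-!
# Bounds on orders from certificates: upper bounds
-/

set_option autoImplicit false
set_option linter.all false

noncomputable section

namespace Cfsg.Agent.CosetCert

variable (D : Table)

def closedOK (D : Table) : ℕ → ℕ → Bool
  | _, 0 => true
  | a, n + 1 => cellsOK D a D.C.K && closedOK D (Nat.succ a) n

theorem closedOK_spec : ∀ n a, closedOK D a n = true → ∀ i, a ≤ i → i < a + n → cellsOK D i D.C.K = true := by
  intro n
  induction n with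
  | zero => intro a _ i h1 h2; omega
  | succ n ih =>
    intro a h i h1 h2
    simp only [closedOK, Bool.and_eq_true] at h
    rcases Nat.eq_or_lt_of_le h1 with e | e
    · exact e ▸ h.1
    · exact ih (Nat.succ a) h.2 i (by omega) (by omega)

theorem closed_zero : ∀ i < 0, cellsOK D i D.C.K = true := fun i hi => absurd hi (by omega)

theorem closed_add {D : Table} (a n : ℕ) (h : ∀ i < a, cellsOK D i D.C.K = true) (h' : closedOK D a n = true) :
    ∀ i < a + n, cellsOK D i D.C.K = true := fun i hi =>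
  (Nat.lt_or_ge i a).elim (h i) fun ha => closedOK_spec D n a h' i ha hi

/-- The fact recorded for a cell joins the row with another row by the letter. -/
def EdgeAt (D : Table) (c x : ℕ) : Prop :=
  D.fid c x < D.C.N ∧ fX (D.C.F.get (D.fid c x)) = x ∧ ∃ d, d < D.n ∧
    ((fU (D.C.F.get (D.fid c x)) = D.repr c ∧ fV (D.C.F.get (D.fid c x)) = D.repr d) ∨
      (fV (D.C.F.get (D.fid c x)) = D.repr c ∧ fU (D.C.F.get (D.fid c x)) = D.repr d))

theorem edges_of_cells {D : Table} (h : ∀ c < D.n, cellsOK D c D.C.K = true) :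
    ∀ c < D.n, ∀ x < D.C.K, EdgeAt D c x := by
  intro c hc x hx
  have h' := cellsOK_spec D _ (h c hc) x hx
  simp only [cellOK, Bool.and_eq_true, Bool.or_eq_true] at h'
  obtain ⟨⟨⟨⟨h1, -⟩, h3⟩, h4⟩, h5⟩ := h'
  refine ⟨by simpa [Nat.blt] using h3, Nat.eq_of_beq_eq_true h4, D.tgt c x, by simpa [Nat.blt] using h1, ?_⟩
  rcases h5 with ⟨a, b⟩ | ⟨a, b⟩
  · exact Or.inl ⟨Nat.eq_of_beq_eq_true a, Nat.eq_of_beq_eq_true b⟩
  · exact Or.inr ⟨Nat.eq_of_beq_eq_true a, Nat.eq_of_beq_eq_true b⟩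

/-- The target of a cell, read from a tree of rows. -/
def tgtT (T : Tree) (c x : ℕ) : ℕ := Nat.land (Nat.shiftRight (T.get c) (Nat.mul 20 x)) 1048575

def edgeOK (D : Table) (T : Tree) (c x : ℕ) : Bool :=
  let d := tgtT T c x
  let f := D.C.F.get (D.fid c x)
  Nat.blt d D.n && Nat.blt (D.fid c x) D.C.N && Nat.beq (fX f) x &&
    ((Nat.beq (fU f) (D.repr c) && Nat.beq (fV f) (D.repr d)) ||
     (Nat.beq (fV f) (D.repr c) && Nat.beq (fU f) (D.repr d)))

def edgesRow (D : Table) (T : Tree) (c : ℕ) : ℕ → Bool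
  | 0 => true
  | x + 1 => edgeOK D T c x && edgesRow D T c x

def edgesOK (D : Table) (T : Tree) : ℕ → ℕ → Bool
  | _, 0 => true
  | a, n + 1 => edgesRow D T a D.C.K && edgesOK D T (Nat.succ a) n

theorem edgesRow_spec {D : Table} {T : Tree} {c : ℕ} : ∀ K, edgesRow D T c K = true → ∀ x < K, EdgeAt D c x
  | 0, _, x, hx => absurd hx (by omega)
  | K + 1, h, x, hx => by
    simp only [edgesRow, Bool.and_eq_true] at h
    rcases Nat.lt_succ_iff_lt_or_eq.mp hx with e | rfl
    · exact edgesRow_spec K h.2 x e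
    · have h' := h.1
      simp only [edgeOK, Bool.and_eq_true, Bool.or_eq_true] at h'
      obtain ⟨⟨⟨h1, h3⟩, h4⟩, h5⟩ := h'
      refine ⟨by simpa [Nat.blt] using h3, Nat.eq_of_beq_eq_true h4, tgtT T c x, by simpa [Nat.blt] using h1, ?_⟩
      rcases h5 with ⟨a, b⟩ | ⟨a, b⟩
      · exact Or.inl ⟨Nat.eq_of_beq_eq_true a, Nat.eq_of_beq_eq_true b⟩
      · exact Or.inr ⟨Nat.eq_of_beq_eq_true a, Nat.eq_of_beq_eq_true b⟩

theorem edgesOK_spec {D : Table} {T : Tree} : ∀ n a, edgesOK D T a n = true →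
    ∀ i, a ≤ i → i < a + n → ∀ x < D.C.K, EdgeAt D i x := by
  intro n
  induction n with
  | zero => intro a _ i h1 h2; omega
  | succ n ih =>
    intro a h i h1 h2
    simp only [edgesOK, Bool.and_eq_true] at h
    rcases Nat.eq_or_lt_of_le h1 with e | e
    · exact e ▸ edgesRow_spec _ h.1
    · exact ih (Nat.succ a) h.2 i (by omega) (by omega)

theorem edges_zero : ∀ i < 0, ∀ x < D.C.K, EdgeAt D i x := fun i hi => absurd hi (by omega)

theorem edges_add {D : Table} {T : Tree} (a n : ℕ) (h : ∀ i < a, ∀ x < D.C.K, EdgeAt D i x)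
    (h' : edgesOK D T a n = true) : ∀ i < a + n, ∀ x < D.C.K, EdgeAt D i x := fun i hi =>
  (Nat.lt_or_ge i a).elim (h i) fun ha => edgesOK_spec n a h' i ha hi

/-- What an upper bound needs. -/
structure Closed : Prop where
  start : fM (D.C.F.get 0) = 1
  steps : ∀ i < D.C.N, stepOK D.C i = true
  cells : ∀ c < D.n, ∀ x < D.C.K, EdgeAt D c x
  root : D.repr 0 = 0
  pos : 0 < D.n

variable {D}

theorem Checked.closed (hD : Checked D) : Closed D where
  start := hD.start
  steps := hD.steps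
  cells := edges_of_cells fun c hc => by
    have h := hD.rows c hc
    simp only [rowOK, Bool.and_eq_true] at h
    exact h.1.1
  root := by
    have h := hD.rows 0 hD.pos
    simp only [rowOK, Bool.and_eq_true] at h
    exact Nat.eq_of_beq_eq_true h.2
  pos := hD.pos

variable {G : Type*} [Group G]

/-- A finite subgroup of order at most `B`. -/
def Bdd (H : Subgroup G) (B : ℕ) : Prop := Finite H ∧ Nat.card H ≤ B

theorem bdd_bot : Bdd (⊥ : Subgroup G) 1 := ⟨inferInstance, by rw [Subgroup.card_bot]⟩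

theorem Bdd.mono {H : Subgroup G} {B B' : ℕ} (h : Bdd H B) (hB : B ≤ B') : Bdd H B' := ⟨h.1, h.2.trans hB⟩

theorem Bdd.congr {H H' : Subgroup G} {B : ℕ} (h : Bdd H B) (e : H = H') : Bdd H' B := e ▸ h

theorem beq_false_of_ne {a b : ℕ} (h : a ≠ b) : Nat.beq a b = false := by
  cases he : Nat.beq a b
  · rfl
  · exact absurd (Nat.eq_of_beq_eq_true he) h

/-- Every point of a transitive action is the image of a row. -/
theorem rows_surjective {Q : Type*} [MulAction G Q] {q₀ : Q} (g : ℕ → G) (hD : Closed D)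
    (hS : Sat g D.C q₀) (hgen : Subgroup.closure (g '' {x | x < D.C.K}) = ⊤)
    (htr : ∀ p : Q, ∃ a : G, a • q₀ = p) : ∃ ρ : Fin D.n → Q, Function.Surjective ρ := by
  obtain ⟨q, hq0, hq⟩ := exists_naming g D.C _ hS hD.start hD.steps
  let ρ : Fin D.n → Q := fun c => q (D.repr c)
  refine ⟨ρ, fun p => ?_⟩
  have hx : ∀ x < D.C.K, ∀ c : Fin D.n, g x • ρ c ∈ Set.range ρ := by
    intro x hx c
    obtain ⟨h3, h4, d, hd, h5⟩ := hD.cells c c.2 x hx
    have hv := hq _ h3
    unfold Valid at hv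
    rw [h4] at hv
    simp only [consLetter, beq_false_of_ne hx.ne, cond_false, act] at hv
    refine ⟨⟨d, hd⟩, ?_⟩
    show q (D.repr d) = g x • q (D.repr c)
    rcases h5 with ⟨a, b⟩ | ⟨a, b⟩ <;> rw [a, b] at hv
    · exact hv.symm
    · rw [← hv, ← mul_smul, hS.invol, one_smul]
  have hall : ∀ a : G, (∀ c, a • ρ c ∈ Set.range ρ) ∧ (∀ c, a⁻¹ • ρ c ∈ Set.range ρ) := by
    intro a
    have ha : a ∈ Subgroup.closure (g '' {x | x < D.C.K}) := by rw [hgen]; exact Subgroup.mem_top a
    induction ha using Subgroup.closure_induction with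
    | mem y hy =>
      obtain ⟨x, hx', rfl⟩ := hy
      exact ⟨hx x hx', by rw [inv_eq_of_mul_eq_one_right (hS.invol x)]; exact hx x hx'⟩
    | one => exact ⟨fun c => by rw [one_smul]; exact ⟨c, rfl⟩, fun c => by rw [inv_one, one_smul]; exact ⟨c, rfl⟩⟩
    | mul a b _ _ iha ihb =>
      refine ⟨fun c => ?_, fun c => ?_⟩
      · obtain ⟨d, hd⟩ := ihb.1 c; rw [mul_smul, ← hd]; exact iha.1 d
      · obtain ⟨d, hd⟩ := iha.2 c; rw [_root_.mul_inv_rev, mul_smul, ← hd]; exact ihb.2 d
    | inv a _ ih => exact ⟨ih.2, by rw [inv_inv]; exact ih.1⟩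
  obtain ⟨a, rfl⟩ := htr p
  obtain ⟨d, hd⟩ := (hall a).1 ⟨0, hD.pos⟩
  refine ⟨d, hd.trans ?_⟩
  show a • q (D.repr 0) = a • q₀
  rw [hD.root, hq0]

/-- A certificate for the cosets of a subgroup in a subgroup bounds the order. -/
theorem Bdd.step (hD : Closed D) (g : ℕ → G) (hg : ∀ x, g x * g x = 1) (hW : ∀ w ∈ D.C.W, wprod g w = 1)
    (hlS : allLettersOK D.C.K D.C.S = true) {top sub : Subgroup G} {B : ℕ}
    (htop : top = Subgroup.closure (g '' {x | x < D.C.K}))
    (hsub : sub = Subgroup.closure (wprod g '' {w | w ∈ D.C.S}))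
    (hlW : allLettersOK D.C.K D.C.W = true) (hB : Bdd sub B) : Bdd top (D.n * B) := by
  have hmem : ∀ x < D.C.K, g x ∈ top := fun x hx => htop ▸ Subgroup.subset_closure ⟨x, hx, rfl⟩
  let g' : ℕ → top := fun x => if hx : x < D.C.K then ⟨g x, hmem x hx⟩ else 1
  have hgg : ∀ x < D.C.K, (g' x : G) = g x := fun x hx => by simp [g', hx]
  have hwp : ∀ w : List ℕ, (∀ y ∈ w, y < D.C.K) → ((wprod g' w : top) : G) = wprod g w := by
    intro w
    induction w with
    | nil => intro _; rfl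
    | cons y w ih =>
      intro hy
      rw [wprod, wprod, Subgroup.coe_mul, ih (fun z hz => hy z (List.mem_cons_of_mem _ hz)),
        hgg y (hy y List.mem_cons_self)]
  have hle : sub ≤ top := by
    rw [hsub, Subgroup.closure_le]
    rintro _ ⟨w, hw, rfl⟩
    rw [← hwp w (allLettersOK_spec hlS w hw)]
    exact SetLike.coe_mem _
  have hinv : ∀ x, g' x * g' x = 1 := fun x => by
    simp only [g']
    split
    · exact Subtype.ext (hg x)
    · exact one_mul 1
  have hS : Sat g' D.C (QuotientGroup.mk 1 : top ⧸ sub.subgroupOf top) := by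
    refine ⟨hinv, fun w hw q => ?_, fun w hw => ?_⟩
    · rw [act_eq_wprod, show wprod g' w = 1 from Subtype.ext ((hwp w (allLettersOK_spec hlW w hw)).trans (hW w hw)),
        one_smul]
    · rw [act_eq_wprod, MulAction.Quotient.smul_mk, smul_eq_mul, mul_one, QuotientGroup.eq, mul_one, inv_mem_iff,
        Subgroup.mem_subgroupOf, hwp w (allLettersOK_spec hlS w hw), hsub]
      exact Subgroup.subset_closure ⟨w, hw, rfl⟩
  have hgen : Subgroup.closure (g' '' {x | x < D.C.K}) = ⊤ := by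
    apply Subgroup.map_injective top.subtype_injective
    rw [MonoidHom.map_closure, ← MonoidHom.range_eq_map, Subgroup.range_subtype]
    conv_rhs => rw [htop]
    congr 1
    ext p
    constructor
    · rintro ⟨_, ⟨x, hx, rfl⟩, rfl⟩; exact ⟨x, hx, (hgg x hx).symm⟩
    · rintro ⟨x, hx, rfl⟩; exact ⟨g' x, ⟨x, hx, rfl⟩, hgg x hx⟩
  obtain ⟨ρ, hρ⟩ := rows_surjective g' hD hS hgen fun p => QuotientGroup.induction_on p fun a =>
    ⟨a, by rw [MulAction.Quotient.smul_mk, smul_eq_mul, mul_one]⟩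
  haveI : Finite (top ⧸ sub.subgroupOf top) := Finite.of_surjective ρ hρ
  haveI := hB.1
  haveI : Finite (sub.subgroupOf top) := Finite.of_equiv _ (Subgroup.subgroupOfEquivOfLe hle).symm.toEquiv
  refine ⟨Finite.of_equiv _ (Subgroup.groupEquivQuotientProdSubgroup (s := sub.subgroupOf top)).symm, ?_⟩
  rw [Subgroup.card_eq_card_quotient_mul_card_subgroup (sub.subgroupOf top),
    Nat.card_congr (Subgroup.subgroupOfEquivOfLe hle).toEquiv]
  refine Nat.mul_le_mul ?_ hB.2
  calc Nat.card (top ⧸ sub.subgroupOf top) ≤ Nat.card (Fin D.n) := Nat.card_le_card_of_surjective ρ hρ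
    _ = D.n := Nat.card_fin _

/-- A certificate bounds the index of a subgroup. -/
theorem index_le (hD : Closed D) (g : ℕ → G) (hg : ∀ x, g x * g x = 1) (hW : ∀ w ∈ D.C.W, wprod g w = 1)
    (hgen : Subgroup.closure (g '' {x | x < D.C.K}) = ⊤) {H : Subgroup G}
    (hH : H = Subgroup.closure (wprod g '' {w | w ∈ D.C.S})) : H.index ≤ D.n := by
  have hS : Sat g D.C (QuotientGroup.mk 1 : G ⧸ H) :=
    ⟨hg, fun w hw q => by rw [act_eq_wprod, hW w hw, one_smul], fun w hw => by
      rw [act_eq_wprod, MulAction.Quotient.smul_mk, smul_eq_mul, mul_one, QuotientGroup.eq,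
        mul_one, inv_mem_iff, hH]
      exact Subgroup.subset_closure ⟨w, hw, rfl⟩⟩
  obtain ⟨ρ, hρ⟩ := rows_surjective g hD hS hgen fun p => QuotientGroup.induction_on p fun a =>
    ⟨a, by rw [MulAction.Quotient.smul_mk, smul_eq_mul, mul_one]⟩
  rw [Subgroup.index_eq_card]
  calc Nat.card (G ⧸ H) ≤ Nat.card (Fin D.n) := Nat.card_le_card_of_surjective ρ hρ
    _ = D.n := Nat.card_fin _

/-- A word read from a loop at the origin is trivial. -/
theorem word_trivial {C : Cert} (hstart : fM (C.F.get 0) = 1) (hsteps : ∀ i < C.N, stepOK C i = true)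
    (g : ℕ → G) (hg : ∀ x, g x * g x = 1) (hW : ∀ w ∈ C.W, wprod g w = 1) (hS : C.S = [])
    (len body : ℕ) {w : List ℕ} {b : ℕ} (h : walk C.K C.F C.N len body 0 = some (0, w, b)) : wprod g w = 1 := by
  obtain ⟨q, hq0, hq⟩ := exists_naming g C (1 : G) ⟨hg, fun v hv p => by rw [act_eq_wprod, hW v hv, one_smul],
    fun v hv => by rw [hS] at hv; simp at hv⟩ hstart hsteps
  have := walk_sound g C q hg hq len body 0 h
  rw [act_eq_wprod, hq0, smul_eq_mul, mul_one] at this
  exact this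

end Cfsg.Agent.CosetCert
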